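import Cfsg.Agent.Lib.Chev.GTorus.Main

/-!
A single monomial element realising the fusion of a set of diagonal elements.
-/

set_option autoImplicit false

namespace CfsgLib.Chev.SylowTorus

open Cfsg.Lie Matrix CfsgLib.Chev.Cert CfsgLib.Chev.GTorus

variable {D : ChevalleyDatum} {T : Tab} {C : Tab.Cover} (h : Cert D T C) {F : Type*} [Field F]
include h

theorem diag_fusion {g : GL D.Idx F} (hg : g ∈ D.group F) :
    ∃ n ∈ D.monomialSubgroup F, ∀ h₁ ∈ D.diagonalSubgroup F, ∀ h₂ ∈ D.diagonalSubgroup F,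
      g * h₁ * g⁻¹ = h₂ → n * h₁ * n⁻¹ = h₂ := by
  obtain ⟨b, hb, n, hn, u, hu, rfl⟩ := h.bruhat_exists hg
  obtain ⟨v, hv, t, ht, rfl⟩ := h.mem_borel_iff.1 hb
  refine ⟨n, hn, fun h₁ h1 h₂ h2 hc => ?_⟩
  have hd : n * h₁ * n⁻¹ ∈ D.diagonalSubgroup F :=
    (Subgroup.mem_normalizer_iff.1 (h.monomial_le_normalizer_diagonal hn) h₁).1 h1
  have hu' : h₁⁻¹ * u * h₁ ∈ cellUnipotent D F n := by
    obtain ⟨π, hπ, -⟩ := h.exists_perm hn
    rw [h.cellUnipotent_eq fun r hr => ⟨(hπ r hr).1, (hπ r hr).2.1⟩] at hu ⊢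
    have := (Subgroup.mem_normalizer_iff.1 (h.diagonal_le_normalizer_gen
      (fun r (hr : r ∈ posSet T \ {r | T.half ≤ π r}) => hr.1.2) (inv_mem h1)) u).1 hu
    rwa [inv_inv] at this
  have hb1 : v * t * (n * h₁ * n⁻¹) ∈ D.borelSubgroup F :=
    mul_mem hb (Subgroup.mem_sup_right hd)
  have hb2 : h₂ * (v * t) ∈ D.borelSubgroup F := mul_mem (Subgroup.mem_sup_right h2) hb
  have e : v * t * (n * h₁ * n⁻¹) * n * (h₁⁻¹ * u * h₁) = h₂ * (v * t) * n * u := by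
    rw [← hc]; group
  obtain ⟨e1, -⟩ := (h.bruhat_unique hb1 hb2 hn hn hu' hu e).2 rfl
  -- compare the two sides modulo `U`
  have hv' : h₂ * v * h₂⁻¹ ∈ D.posUnipotent F :=
    (Subgroup.mem_normalizer_iff.1 (h.diagonal_le_normalizer_posUnipotent h2) v).1 hv
  have hx : v⁻¹ * (h₂ * v * h₂⁻¹) ∈ D.posUnipotent F ⊓ D.diagonalSubgroup F := by
    refine Subgroup.mem_inf.2 ⟨mul_mem (inv_mem hv) hv', ?_⟩
    have e2 : v⁻¹ * (h₂ * v * h₂⁻¹) = t * (n * h₁ * n⁻¹) * (h₂ * t)⁻¹ := by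
      calc v⁻¹ * (h₂ * v * h₂⁻¹) = v⁻¹ * (h₂ * (v * t)) * (h₂ * t)⁻¹ := by group
        _ = _ := by rw [← e1]; group
    rw [e2]
    exact mul_mem (mul_mem ht hd) (inv_mem (mul_mem h2 ht))
  rw [h.posUnipotent_inf_diagonal, Subgroup.mem_bot, inv_mul_eq_one] at hx
  have e3 : t * (n * h₁ * n⁻¹) = h₂ * t := by
    calc t * (n * h₁ * n⁻¹) = v⁻¹ * (v * t * (n * h₁ * n⁻¹)) := by group
      _ = v⁻¹ * (h₂ * v * h₂⁻¹) * (h₂ * t) := by rw [e1]; group
      _ = h₂ * t := by rw [← hx, inv_mul_cancel, one_mul]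
  rw [h.diagonal_comm ht hd] at e3
  exact mul_right_cancel e3

/-- Monomial elements act through words in the simple reflections. -/
theorem exists_acts_word {g : GL D.Idx F} (hg : g ∈ D.monomialSubgroup F) :
    ∃ w : List ℕ, WordOK T w ∧ Acts D T g (w.map (reflMat T)).prod := by
  obtain ⟨w, hw, t, ht, rfl⟩ := h.exists_word_of_monomial hg
  refine ⟨w, hw, fun r hr => ⟨rword T w r, h.rword_lt hw hr,
    Maps_mul (h.Maps_diagonal ht hr) (h.Maps_nW hw hr), ?_⟩⟩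
  clear ht hg
  induction w with
  | nil => simp [rword]
  | cons i w ih =>
    rw [rword_cons, carV_refl h hw.head (h.rword_lt hw.tail hr), ih hw.tail, List.map_cons,
      List.prod_cons, Matrix.mulVec_mulVec]

theorem acts_finite_order' [Finite F] {Mi : Matrix (Fin T.l) (Fin T.l) ℤ} {δ : ℤ} (hδ : δ ≠ 0)
    (hMi : Mi * cartanT T = δ • 1) {g : GL D.Idx F} {A : Matrix (Fin T.l) (Fin T.l) ℤ}
    (hg : Acts D T g A) : ∃ N, 0 < N ∧ A ^ N = 1 := by
  refine ⟨orderOf g, orderOf_pos g, ?_⟩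
  have h1 := acts_pow h hg (orderOf g)
  rw [pow_orderOf_eq_one] at h1
  have e : A ^ orderOf g * (cartanT T)ᵀ = 1 * (cartanT T)ᵀ := by
    ext i j
    obtain ⟨s, hs, hm, he⟩ := h1 _ (h.simple_lt j.2)
    obtain ⟨u, hu, hm', he'⟩ := acts_diagonal h (one_mem (D.diagonalSubgroup F)) _ (h.simple_lt j.2)
    exact congrFun (he.symm.trans ((congrArg (carV T) (h.Maps_unique hs hu hm hm')).trans he')) i
  have e2 : (cartanT T)ᵀ * Miᵀ = δ • 1 := by
    rw [← Matrix.transpose_mul, hMi, Matrix.transpose_smul, Matrix.transpose_one]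
  have := congrArg (fun X => X * Miᵀ) e
  simp only [Matrix.mul_assoc, e2, Matrix.mul_smul, Matrix.mul_one] at this
  exact smul_right_injective _ hδ this

end CfsgLib.Chev.SylowTorus
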