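import Cfsg.Agent.Lib.Chev.SylowTorus.Lattice
import Cfsg.Agent.Lib.Chev.OrderData
import Cfsg.Agent.Lib.Chev.GTorus.Weyl

/-!
Lattice certificates for D4, E6 and E7 (generated).
-/

set_option autoImplicit false
set_option maxRecDepth 100000

namespace CfsgLib.Chev.SylowTorus

open Matrix CfsgLib.Chev.GTorus

/-- A vector from the list of its entries. -/
def vecOf {A : Type*} [Zero A] (l : ℕ) (L : List A) : Fin l → A := fun i => L.getD i 0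

/-- The scaled inverse Cartan matrix of type D4. -/
noncomputable def kKD4 : Matrix (Fin tabD4.l) (Fin tabD4.l) ℤ := matOf _ [[4, 4, 2, 2], [4, 8, 4, 4], [2, 4, 4, 2], [2, 4, 2, 4]]

theorem evD4 : Ev (cartanT tabD4) kKD4 4 (matOf _ [[1, -1, 0, 0], [0, 1, -1, -1], [0, 0, 1, 0], [0, 0, 0, 1]]) (matOf _ [[2, 2, 1, 1], [0, 2, 1, 1], [0, 0, 1, 0], [0, 0, 0, 1]]) (vecOf _ [1, 1, 2, 2]) 1 where
  symm := by decide +kernel
  inv := by decide +kernel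
  even := by decide +kernel
  psd := by decide +kernel
  cpos := by norm_num
  δpos := by norm_num

theorem refl_isoD4 : ∀ i < tabD4.l, Iso (cartanT tabD4) kKD4 (reflMat tabD4 i) := by
  have h1 : ∀ i < tabD4.l, (reflMat tabD4 i)ᵀ * kKD4 * reflMat tabD4 i = kKD4 ∧
      reflMat tabD4 i = 1 + cartanT tabD4 *
        Matrix.diagonal (fun j : Fin tabD4.l => if (j : ℕ) = i then (-1 : ℤ) else 0) := by
    decide +kernel
  exact fun i hi => ⟨(h1 i hi).1, _, (h1 i hi).2⟩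

/-- The scaled inverse Cartan matrix of type E6. -/
noncomputable def kKE6 : Matrix (Fin tabE6.l) (Fin tabE6.l) ℤ := matOf _ [[4, 3, 5, 6, 4, 2], [3, 6, 6, 9, 6, 3], [5, 6, 10, 12, 8, 4], [6, 9, 12, 18, 12, 6], [4, 6, 8, 12, 10, 5], [2, 3, 4, 6, 5, 4]]

theorem evE6 : Ev (cartanT tabE6) kKE6 3 (matOf _ [[1, 0, -1, 0, 0, 0], [0, 1, 0, -1, 0, 0], [0, 0, 1, -1, 0, 0], [0, 0, 0, 1, -1, 0], [0, 0, 0, 0, 1, -1], [0, 0, 0, 0, 0, 1]]) (matOf _ [[4, 3, 5, 6, 4, 2], [0, 5, 3, 6, 4, 2], [0, 0, 4, 3, 2, 1], [0, 0, 0, 3, 2, 1], [0, 0, 0, 0, 2, 1], [0, 0, 0, 0, 0, 1]]) (vecOf _ [5, 3, 3, 5, 10, 30]) 20 where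
  symm := by decide +kernel
  inv := by decide +kernel
  even := by decide +kernel
  psd := by decide +kernel
  cpos := by norm_num
  δpos := by norm_num

theorem refl_isoE6 : ∀ i < tabE6.l, Iso (cartanT tabE6) kKE6 (reflMat tabE6 i) := by
  have h1 : ∀ i < tabE6.l, (reflMat tabE6 i)ᵀ * kKE6 * reflMat tabE6 i = kKE6 ∧
      reflMat tabE6 i = 1 + cartanT tabE6 *
        Matrix.diagonal (fun j : Fin tabE6.l => if (j : ℕ) = i then (-1 : ℤ) else 0) := by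
    decide +kernel
  exact fun i hi => ⟨(h1 i hi).1, _, (h1 i hi).2⟩

/-- The residue vector of type E6. -/
noncomputable def kUE6 : Fin tabE6.l → ℤ := vecOf _ [1, 0, 2, 0, 1, 2]

theorem remE6 : kKE6 - (4 : ℤ) • (Matrix.of fun i j => kUE6 i * kUE6 j) =
    (3 : ℤ) • (matOf _ [[0, 1, -1, 2, 0, -2], [0, 1, 2, 3, 2, 1], [0, 0, -1, 4, 0, -4], [0, 0, 0, 3, 4, 2], [0, 0, 0, 0, 1, -1], [0, 0, 0, 0, 0, -2]] + (matOf _ [[0, 1, -1, 2, 0, -2], [0, 1, 2, 3, 2, 1], [0, 0, -1, 4, 0, -4], [0, 0, 0, 3, 4, 2], [0, 0, 0, 0, 1, -1], [0, 0, 0, 0, 0, -2]])ᵀ) := by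
  decide +kernel

/-- The scaled inverse Cartan matrix of type E7. -/
noncomputable def kKE7 : Matrix (Fin tabE7.l) (Fin tabE7.l) ℤ := matOf _ [[4, 4, 6, 8, 6, 4, 2], [4, 7, 8, 12, 9, 6, 3], [6, 8, 12, 16, 12, 8, 4], [8, 12, 16, 24, 18, 12, 6], [6, 9, 12, 18, 15, 10, 5], [4, 6, 8, 12, 10, 8, 4], [2, 3, 4, 6, 5, 4, 3]]

theorem evE7 : Ev (cartanT tabE7) kKE7 2 (matOf _ [[1, 0, -1, 0, 0, 0, 0], [0, 1, 0, -1, 0, 0, 0], [0, 0, 1, -1, 0, 0, 0], [0, 0, 0, 1, -1, 0, 0], [0, 0, 0, 0, 1, -1, 0], [0, 0, 0, 0, 0, 1, -1], [0, 0, 0, 0, 0, 0, 1]]) (matOf _ [[2, 2, 3, 4, 3, 2, 1], [0, 3, 2, 4, 3, 2, 1], [0, 0, 5, 4, 3, 2, 1], [0, 0, 0, 4, 3, 2, 1], [0, 0, 0, 0, 3, 2, 1], [0, 0, 0, 0, 0, 2, 1], [0, 0, 0, 0, 0, 0, 1]]) (vecOf _ [30, 10, 2, 3, 5, 10, 30]) 30 where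
  symm := by decide +kernel
  inv := by decide +kernel
  even := by decide +kernel
  psd := by decide +kernel
  cpos := by norm_num
  δpos := by norm_num

theorem refl_isoE7 : ∀ i < tabE7.l, Iso (cartanT tabE7) kKE7 (reflMat tabE7 i) := by
  have h1 : ∀ i < tabE7.l, (reflMat tabE7 i)ᵀ * kKE7 * reflMat tabE7 i = kKE7 ∧
      reflMat tabE7 i = 1 + cartanT tabE7 *
        Matrix.diagonal (fun j : Fin tabE7.l => if (j : ℕ) = i then (-1 : ℤ) else 0) := by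
    decide +kernel
  exact fun i hi => ⟨(h1 i hi).1, _, (h1 i hi).2⟩

/-- The residue vector of type E7. -/
noncomputable def kUE7 : Fin tabE7.l → ℤ := vecOf _ [0, 1, 0, 0, 1, 0, 1]

theorem remE7 : kKE7 - (3 : ℤ) • (Matrix.of fun i j => kUE7 i * kUE7 j) =
    (2 : ℤ) • (matOf _ [[1, 2, 3, 4, 3, 2, 1], [0, 1, 4, 6, 3, 3, 0], [0, 0, 3, 8, 6, 4, 2], [0, 0, 0, 6, 9, 6, 3], [0, 0, 0, 0, 3, 5, 1], [0, 0, 0, 0, 0, 2, 2], [0, 0, 0, 0, 0, 0, 0]] + (matOf _ [[1, 2, 3, 4, 3, 2, 1], [0, 1, 4, 6, 3, 3, 0], [0, 0, 3, 8, 6, 4, 2], [0, 0, 0, 6, 9, 6, 3], [0, 0, 0, 0, 3, 5, 1], [0, 0, 0, 0, 0, 2, 2], [0, 0, 0, 0, 0, 0, 0]])ᵀ) := by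
  decide +kernel

end CfsgLib.Chev.SylowTorus
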