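import Cfsg.Agent.Lib.Chev.SylowTorus.Shape
import Cfsg.Agent.Lib.Chev.SylowTorus.Data

/-!
Multiplicities of primitive roots of unity as eigenvalues of Weyl group elements.
-/

set_option autoImplicit false

namespace CfsgLib.Chev.SylowTorus

open Matrix Polynomial CfsgLib.Chev.GTorus CfsgLib.Chev.Cert

variable {l : ℕ} {M : Matrix (Fin l) (Fin l) ℤ} {r : ℕ} [Fact r.Prime]

theorem wild_of_totient {a : ZMod r} (ha : a ≠ 0) (hl : l < (orderOf a).totient * (r - 1)) :
    ∀ j : ℕ, ¬ cyclotomic (r ^ (j + 1) * orderOf a) ℤ ∣ M.charpoly := by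
  intro j hdv
  have hr : r.Prime := Fact.out
  have h1 := Polynomial.natDegree_le_of_dvd hdv (charpoly_monic M).ne_zero
  rw [natDegree_cyclotomic, Matrix.charpoly_natDegree_eq_dim, Fintype.card_fin] at h1
  have hd1 := ZMod.orderOf_dvd_card_sub_one ha
  have hcop : (r ^ (j + 1)).Coprime (orderOf a) := by
    refine Nat.Coprime.pow_left _ (hr.coprime_iff_not_dvd.2 fun hh => ?_)
    have := Nat.le_of_dvd (by have := hr.two_le; omega) (hh.trans hd1)
    have := hr.two_le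
    omega
  rw [Nat.totient_mul hcop, Nat.totient_prime_pow_succ hr, mul_comm] at h1
  have : 1 ≤ r ^ j := Nat.one_le_pow _ _ hr.pos
  nlinarith

theorem mult_le_dim (a : ZMod r) :
    (M.charpoly.map (Int.castRingHom (ZMod r))).rootMultiplicity a ≤ l := by
  rw [← count_roots]
  refine (Multiset.count_le_card _ _).trans ((card_roots' _).trans ?_)
  rw [(charpoly_monic M).natDegree_map, Matrix.charpoly_natDegree_eq_dim, Fintype.card_fin]

/-- The degree bound. -/
theorem mult_le_of_totient {n : ℕ} (hn : 0 < n) (hM : M ^ n = 1) {a : ZMod r} (ha : a ≠ 0) {N : ℕ}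
    (hN : l < (N + 1) * (orderOf a).totient) (hl : l < (orderOf a).totient * (r - 1)) :
    (M.charpoly.map (Int.castRingHom (ZMod r))).rootMultiplicity a ≤ N := by
  obtain ⟨k, R, -, -, -, hdeg, hle⟩ := exists_mult hn hM ha (wild_of_totient ha hl)
  by_contra hlt
  have h1 : (N + 1) * (orderOf a).totient ≤ k * (orderOf a).totient :=
    Nat.mul_le_mul_right _ (by omega)
  omega

theorem eq_X_sub_C {R : ℤ[X]} (hR : R.Monic) (h1 : R.natDegree = 1) : ∃ ε, R = Polynomial.X - Polynomial.C ε :=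
  ⟨-R.coeff 0, by rw [map_neg, sub_neg_eq_add]; exact hR.eq_X_add_C h1⟩

theorem sq_eq_one {n : ℕ} (hn : 0 < n) (hM : M ^ n = 1) {ε : ℤ}
    (hε : M.charpoly.eval ε = 0) : ε * ε = 1 := by
  have h1 := Polynomial.eval_dvd (x := ε) (charpoly_dvd hn hM)
  rw [hε, zero_dvd_iff, eval_pow] at h1
  have h2 := (pow_eq_zero_iff'.1 h1).1
  rw [eval_sub, eval_pow, eval_X, eval_one, sub_eq_zero] at h2
  rcases Int.isUnit_iff.1 (IsUnit.of_pow_eq_one h2 hn.ne') with e | e <;> simp [e]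

theorem cyclotomic_four : cyclotomic 4 ℤ = Polynomial.X ^ 2 + 1 := by
  rw [show (4 : ℕ) = 2 ^ (1 + 1) by norm_num, cyclotomic_prime_pow_eq_geom_sum Nat.prime_two]
  simp [Finset.sum_range_succ]
  ring

section

variable {C K : Matrix (Fin l) (Fin l) ℤ} {δ : ℤ}
  {Ec U : Matrix (Fin l) (Fin l) ℤ} {D : Fin l → ℕ} {c : ℕ}

/-- All eigenvalues primitive of order 2, 3, 4 or 6. -/
theorem no_full (h : Ev C K δ Ec U D c) (hI : Iso C K M) {n d k : ℕ} (hn : 0 < n)
    (hM : M ^ n = 1) (hk : 0 < k) (hc : M.charpoly = cyclotomic d ℤ ^ k) (t : ℤ)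
    (hd : (d = 2 ∧ t = 2) ∨ (d = 3 ∧ t = 1) ∨ (d = 4 ∧ t = 0) ∨ (d = 6 ∧ t = -1))
    (i : Fin l) (hi : ¬ 2 * δ ∣ (2 + t) * K i i) : False := by
  have h0 := aeval_radical hn hM hk (R := 1) (by rw [mul_one]; exact hc)
  rw [mul_one] at h0
  refine no_quadratic h hI t ?_ i hi
  rcases hd with ⟨rfl, rfl⟩ | ⟨rfl, rfl⟩ | ⟨rfl, rfl⟩ | ⟨rfl, rfl⟩
  · simp [cyclotomic_two] at h0
    rw [eq_neg_of_add_eq_zero_left h0]; simp; norm_num
  · simp [cyclotomic_three] at h0
    rw [← h0, one_smul]; noncomm_ring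
  · simp [cyclotomic_four] at h0
    rw [← h0, zero_smul]; noncomm_ring
  · simp [cyclotomic_six] at h0
    rw [← h0, neg_smul, one_smul]; noncomm_ring

end

theorem iso_word {T : CfsgLib.Chev.Tab} {C K : Matrix (Fin T.l) (Fin T.l) ℤ}
    (hr : ∀ i < T.l, Iso C K (reflMat T i)) {w : List ℕ} (hw : WordOK T w) :
    Iso C K (w.map (reflMat T)).prod :=
  iso_list_prod _ fun M hM => by
    obtain ⟨i, hi, rfl⟩ := List.mem_map.1 hM
    exact hr i (hw i hi)

theorem boundD4 {w : List ℕ} (hw : WordOK tabD4 w) {n : ℕ} (hn : 0 < n)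
    (hM : (w.map (reflMat tabD4)).prod ^ n = 1) {a : ZMod r} (ha : a ≠ 0)
    (hd : orderOf a = 3 ∨ orderOf a = 6) (hr : 5 ≤ r) :
    ((w.map (reflMat tabD4)).prod.charpoly.map (Int.castRingHom (ZMod r))).rootMultiplicity a ≤ 1 := by
  have hphi : (orderOf a).totient = 2 := by rcases hd with e | e <;> rw [e] <;> decide
  have hl : tabD4.l = 4 := rfl
  obtain ⟨k, R, hc, hRm, -, hdeg, hle⟩ := exists_mult hn hM ha (wild_of_totient ha (by
    rw [hphi, hl]; omega))
  rw [hphi, hl] at hdeg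
  by_contra hlt
  rw [hRm.natDegree_eq_zero.1 (by omega), mul_one] at hc
  rcases hd with e | e <;> rw [e] at hc
  · exact no_full evD4 (iso_word refl_isoD4 hw) hn hM (by omega) hc 1 (by simp) ⟨0, by decide⟩
      (by decide +kernel)
  · exact no_full evD4 (iso_word refl_isoD4 hw) hn hM (by omega) hc (-1) (by simp) ⟨0, by decide⟩
      (by decide +kernel)

theorem boundE6 {w : List ℕ} (hw : WordOK tabE6 w) {n : ℕ} (hn : 0 < n)
    (hM : (w.map (reflMat tabE6)).prod ^ n = 1) {a : ZMod r} (ha : a ≠ 0)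
    (hd : orderOf a = 4 ∨ orderOf a = 6) (hr : 7 ≤ r) :
    ((w.map (reflMat tabE6)).prod.charpoly.map (Int.castRingHom (ZMod r))).rootMultiplicity a ≤ 2 := by
  have hphi : (orderOf a).totient = 2 := by rcases hd with e | e <;> rw [e] <;> decide
  have hl : tabE6.l = 6 := rfl
  obtain ⟨k, R, hc, hRm, -, hdeg, hle⟩ := exists_mult hn hM ha (wild_of_totient ha (by
    rw [hphi, hl]; omega))
  rw [hphi, hl] at hdeg
  by_contra hlt
  rw [hRm.natDegree_eq_zero.1 (by omega), mul_one] at hc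
  rcases hd with e | e <;> rw [e] at hc
  · exact no_full evE6 (iso_word refl_isoE6 hw) hn hM (by omega) hc 0 (by simp) ⟨0, by decide⟩
      (by decide +kernel)
  · exact no_full evE6 (iso_word refl_isoE6 hw) hn hM (by omega) hc (-1) (by simp) ⟨0, by decide⟩
      (by decide +kernel)

theorem dvd_det_sub_one (δ : ℤ) {C K : Matrix (Fin l) (Fin l) ℤ} (hC : δ ∣ C.det)
    (hI : Iso C K M) : δ ∣ M.charpoly.eval 1 := by
  obtain ⟨N, hN⟩ := hI.2
  rw [Matrix.eval_charpoly, show Matrix.scalar (Fin l) (1 : ℤ) - M = C * -N by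
    rw [hN, map_one, Matrix.mul_neg]; abel, Matrix.det_mul]
  exact hC.mul_right _

theorem boundE6two {w : List ℕ} (hw : WordOK tabE6 w) {n : ℕ} (hn : 0 < n)
    (hM : (w.map (reflMat tabE6)).prod ^ n = 1) {a : ZMod r} (ha : a ≠ 0)
    (hd : orderOf a = 2) (hr : 7 ≤ r) :
    ((w.map (reflMat tabE6)).prod.charpoly.map (Int.castRingHom (ZMod r))).rootMultiplicity a ≤ 4 := by
  set M := (w.map (reflMat tabE6)).prod
  have hI := iso_word refl_isoE6 hw
  have hl : tabE6.l = 6 := rfl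
  have hwild : ∀ j : ℕ, ¬ cyclotomic (r ^ (j + 1) * orderOf a) ℤ ∣ M.charpoly := by
    intro j hdv
    have hrp : r.Prime := Fact.out
    have h1 := Polynomial.natDegree_le_of_dvd hdv (charpoly_monic M).ne_zero
    rw [natDegree_cyclotomic, Matrix.charpoly_natDegree_eq_dim, Fintype.card_fin, hl, hd,
      Nat.totient_mul ((Nat.coprime_primes hrp Nat.prime_two).2 (by omega) |>.pow_left _),
      Nat.totient_prime_pow_succ hrp, Nat.totient_two, mul_one] at h1
    have hj : 1 ≤ r ^ j := Nat.one_le_pow _ _ hrp.pos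
    have hr7 : r = 7 := by nlinarith [Nat.sub_add_cancel (hrp.one_le)]
    subst hr7
    have hj0 : j = 0 := by
      by_contra hne
      have : 7 ^ 1 ≤ 7 ^ j := Nat.pow_le_pow_right (by norm_num) (by omega)
      omega
    subst hj0
    rw [hd] at hdv
    have he := eq_of_monic_of_dvd_of_natDegree_le (cyclotomic.monic _ ℤ) (charpoly_monic M) hdv
      (by rw [Matrix.charpoly_natDegree_eq_dim, Fintype.card_fin, hl, natDegree_cyclotomic]; decide)
    have h3 : (3 : ℤ) ∣ M.charpoly.eval 1 :=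
      dvd_det_sub_one 3 (by decide +kernel : (3 : ℤ) ∣ (cartanT tabE6).det) hI
    rw [he, eval_one_cyclotomic_not_prime_pow] at h3
    · norm_num at h3
    · intro p hp k hk
      have h2 : p = 2 := by
        have := (Nat.prime_dvd_prime_iff_eq Nat.prime_two hp).1 (Nat.prime_two.dvd_of_dvd_pow
          (hk ▸ (by norm_num : 2 ∣ 7 ^ (0 + 1) * 2)))
        omega
      have h8 : (7 : ℕ) ∣ 2 ^ k := by rw [← h2, hk]; norm_num
      exact absurd ((Nat.prime_dvd_prime_iff_eq (by norm_num) Nat.prime_two).1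
        ((by norm_num : (7 : ℕ).Prime).dvd_of_dvd_pow h8)) (by norm_num)
  obtain ⟨k, R, hc, hRm, hRn, hdeg, hle⟩ := exists_mult hn hM ha hwild
  rw [hd, Nat.totient_two, mul_one, hl] at hdeg
  rw [hd] at hc hRn
  by_contra hlt
  by_cases hR0 : R.natDegree = 0
  · rw [hRm.natDegree_eq_zero.1 hR0, mul_one] at hc
    exact no_full evE6 hI hn hM (by omega) hc 2 (by simp) ⟨0, by decide⟩ (by decide +kernel)
  · obtain ⟨ε, rfl⟩ := eq_X_sub_C hRm (by omega)
    have hε2 := sq_eq_one hn hM (ε := ε) (by rw [hc]; simp)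
    have hε : ε = 1 := by
      rcases Int.eq_one_or_neg_one_of_mul_eq_one hε2 with e | e
      · exact e
      · exact absurd (by rw [e, cyclotomic_two]; simp) hRn
    subst hε
    obtain ⟨v, hv, hprim, hline⟩ := exists_line (K := kKE6) hc (by simp [cyclotomic_two])
    have h0 := aeval_radical hn hM (by omega) hc
    simp [cyclotomic_two] at h0
    obtain ⟨hQ, hdvd, hkey⟩ := line_bound evE6 hI 2 1 rfl hv hprim hline fun y => by
      have h1 := congrArg (fun X => X *ᵥ (M *ᵥ y + y)) h0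
      simp [Matrix.sub_mulVec, Matrix.add_mulVec, ← Matrix.mulVec_mulVec, Matrix.mulVec_add,
        Matrix.mulVec_sub] at h1
      rw [one_smul, ← sub_eq_zero, ← h1]
      simp [Matrix.mulVec_add, two_smul]
      abel
    obtain ⟨j, hj⟩ := qf_mod remE6 v
    set Q := qf kKE6 v
    have hQ6 : Q = 6 := by
      have h3 : Q ∣ 6 := by
        obtain ⟨e, he⟩ := hdvd
        exact ⟨e, by linarith⟩
      have h4 : ((Q : ℤ) : ZMod 6) = 4 * ((kUE6 ⬝ᵥ v : ℤ) : ZMod 6) ^ 2 := by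
        rw [hj]; push_cast; rw [show (6 : ZMod 6) = 0 from rfl, zero_mul, add_zero]
      have h5 := Int.le_of_dvd (by norm_num) h3
      have key : ∀ x : ZMod 6, 4 * x ^ 2 = 0 ∨ 4 * x ^ 2 = 4 := by decide
      rcases key ((kUE6 ⬝ᵥ v : ℤ) : ZMod 6) with e | e <;> rw [e] at h4 <;>
        interval_cases Q <;> revert h3 h4 <;> decide
    obtain ⟨e, he⟩ := hkey (Pi.single ⟨0, by decide⟩ 1)
    rw [show qf kKE6 (Pi.single ⟨0, by decide⟩ 1) = 4 by simp [qf]; decide +kernel, hQ6] at he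
    have h9 := congrArg (fun z : ℤ => (z : ZMod 9)) (show 9 * e =
      24 - ((Pi.single ⟨0, by decide⟩ 1 : Fin tabE6.l → ℤ) ⬝ᵥ kKE6 *ᵥ v) ^ 2 by linarith)
    push_cast at h9
    rw [show (9 : ZMod 9) = 0 from rfl, zero_mul] at h9
    exact (by decide : ∀ x : ZMod 9, (0 : ZMod 9) ≠ 24 - x ^ 2) _ h9

theorem boundE7 {w : List ℕ} (hw : WordOK tabE7 w) {n : ℕ} (hn : 0 < n)
    (hM : (w.map (reflMat tabE7)).prod ^ n = 1) {a : ZMod r} (ha : a ≠ 0)
    (hd : orderOf a = 4) (hr : 11 ≤ r) :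
    ((w.map (reflMat tabE7)).prod.charpoly.map (Int.castRingHom (ZMod r))).rootMultiplicity a ≤ 2 := by
  set M := (w.map (reflMat tabE7)).prod
  have hI := iso_word refl_isoE7 hw
  have hl : tabE7.l = 7 := rfl
  have hphi : Nat.totient 4 = 2 := by decide
  obtain ⟨k, R, hc, hRm, -, hdeg, hle⟩ := exists_mult hn hM ha (wild_of_totient ha (by
    rw [hd, hphi, hl]; omega))
  rw [hd, hphi, hl] at hdeg
  rw [hd] at hc
  by_contra hlt
  obtain ⟨ε, rfl⟩ := eq_X_sub_C hRm (by omega)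
  have hε2 := sq_eq_one hn hM (ε := ε) (by rw [hc]; simp)
  obtain ⟨v, hv, hprim, hline⟩ := exists_line (K := kKE7) hc (by
    rw [cyclotomic_four]; simp [sq, hε2])
  have h0 := aeval_radical hn hM (by omega) hc
  rw [mul_comm, cyclotomic_four] at h0
  simp [sq] at h0
  obtain ⟨hQ, hdvd, -⟩ := line_bound evE7 hI 0 ε hε2 hv hprim hline fun y => by
    have h1 := congrArg (fun X => X *ᵥ y) h0
    simp only [Matrix.sub_mulVec, Matrix.add_mulVec, ← Matrix.mulVec_mulVec, Matrix.zero_mulVec,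
      Matrix.one_mulVec] at h1
    rw [sub_eq_zero] at h1
    rw [zero_smul, add_zero, h1]
    simp [Matrix.intCast_mulVec]; rfl
  obtain ⟨j, hj⟩ := qf_mod remE7 v
  set Q := qf kKE7 v
  have h3 : Q ∣ 2 := by
    obtain ⟨e, he⟩ := hdvd
    rcases Int.eq_one_or_neg_one_of_mul_eq_one hε2 with e' | e'
    · exact ⟨e, by subst e'; linarith⟩
    · exact ⟨-e, by subst e'; linarith⟩
  have h4 : ((Q : ℤ) : ZMod 4) = 3 * ((kUE7 ⬝ᵥ v : ℤ) : ZMod 4) ^ 2 := by
    rw [hj]; push_cast; rw [show (4 : ZMod 4) = 0 from rfl, zero_mul, add_zero]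
  have h5 := Int.le_of_dvd (by norm_num) h3
  have key : ∀ x : ZMod 4, 3 * x ^ 2 ≠ 1 ∧ 3 * x ^ 2 ≠ 2 := by decide
  obtain ⟨k1, k2⟩ := key ((kUE7 ⬝ᵥ v : ℤ) : ZMod 4)
  interval_cases Q
  · exact absurd (by rw [← h4]; norm_num) k1
  · exact absurd (by rw [← h4]; norm_num) k2

end CfsgLib.Chev.SylowTorus
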