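import Cfsg.Agent.Lib.Chev.SylowTorus.Main
import Cfsg.Agent.Lib.Chev.SylowTorus.Bound

/-!
Sylow subgroups for large primes, type by type.
-/

set_option autoImplicit false
set_option maxRecDepth 100000

namespace CfsgLib.Chev.SylowTorus

open Cfsg.Lie Matrix CfsgLib.Chev CfsgLib.Chev.Cert CfsgLib.Chev.GTorus
open CfsgLib.Classical.SylowLargePrime

theorem exists_deg {r q e : ℕ} [Fact r.Prime] (hq : 1 ≤ q) (hrq : ¬ r ∣ q) (ds : List ℕ)
    (h : r ∣ q ^ e * (ds.map fun i => q ^ i - 1).prod) :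
    ∃ i ∈ ds, orderOf (q : ZMod r) ∣ i := by
  have hr : r.Prime := Fact.out
  rcases hr.dvd_mul.1 h with h1 | h1
  · exact absurd (hr.dvd_of_dvd_pow h1) hrq
  obtain ⟨a, ha, hra⟩ := (Prime.dvd_prod_iff hr.prime).1 h1
  obtain ⟨i, hi, rfl⟩ := List.mem_map.1 ha
  exact ⟨i, hi, (dvd_pow_sub_one_iff hq i).1 hra⟩

variable {F : Type*} [Field F] [Fintype F] {r : ℕ} [Fact r.Prime]
variable {D : ChevalleyDatum} {T : Tab} {C : Tab.Cover}

/-- The order of `D.group F`, up to a gcd prime to `r`. -/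
structure OrderOK (D : ChevalleyDatum) (F : Type*) [Field F] [Fintype F] (l e δ : ℕ)
    (ds : List ℕ) : Prop where
  ex : ∃ g : ℕ, g ∣ δ ^ 2 ∧
    g * Nat.card ↥(D.group F) = Fintype.card F ^ e * (ds.map fun i => Fintype.card F ^ i - 1).prod ∧
    g * Nat.card ↥(D.diagonalSubgroup F) = (Fintype.card F - 1) ^ l

/-- The criterion on a possible order `d` of `q` modulo a prime at least `r₀`. -/
abbrev Good (l r₀ : ℕ) (ds special : List ℕ) (d : ℕ) : Prop :=
  l ≤ (ds.filter fun i => d ∣ i).length ∨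
    (l < ((ds.filter fun i => d ∣ i).length + 1) * d.totient ∧ l < d.totient * (r₀ - 1)) ∨
    d ∈ special

theorem sylow_of_type (h : Cert D T C) {Mi : Matrix (Fin T.l) (Fin T.l) ℤ} {δ : ℕ}
    (hMi : Mi * cartanT T = (δ : ℤ) • 1) (hrq : ¬ r ∣ Fintype.card F) (hrδ : ¬ r ∣ δ)
    (ds : List ℕ) (e : ℕ) (hl : ds.length = T.l) (hds : ∀ i ∈ ds, 0 < i ∧ ¬ r ∣ i)
    (hL : ∀ (L : Type) [Field L] [Fintype L], OrderOK D L T.l e δ ds)
    (hF : OrderOK D F T.l e δ ds)
    (r₀ : ℕ) (hr₀ : r₀ ≤ r) (special : List ℕ)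
    (hgood : ∀ i ∈ ds, ∀ d ∈ i.divisors, Good T.l r₀ ds special d)
    (hspec : ∀ w : List ℕ, WordOK T w → ∀ n : ℕ, 0 < n → (w.map (reflMat T)).prod ^ n = 1 →
      ∀ a : ZMod r, a ≠ 0 → orderOf a ∈ special →
        ((w.map (reflMat T)).prod.charpoly.map (Int.castRingHom (ZMod r))).rootMultiplicity a ≤
          (ds.filter fun i => orderOf a ∣ i).length)
    (hrG : r ∣ Nat.card ↥(D.group F)) (P : Sylow r ↥(D.group F)) :
    Nonempty (↥(P : Subgroup ↥(D.group F)) ≃*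
      (Fin (ds.filter fun i => orderOf (Fintype.card F : ZMod r) ∣ i).length →
        Multiplicative (ZMod (r ^ padicValNat r
          ((Polynomial.cyclotomic (orderOf (Fintype.card F : ZMod r)) ℤ).eval
            (Fintype.card F : ℤ)).natAbs)))) := by
  have hr : r.Prime := Fact.out
  have hg : ∀ g, g ∣ δ ^ 2 → ¬ r ∣ g := fun g hgd hh => hrδ (hr.dvd_of_dvd_pow (hh.trans hgd))
  have hq : 1 ≤ Fintype.card F := Fintype.card_pos
  obtain ⟨g, hgd, eG, eD⟩ := hF.ex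
  refine sylow_homocyclic h hMi hrq hrδ ds e hl hds
    (fun L _ _ => ?_) ⟨g, hg g hgd, eG⟩ (fun w hw hn => ?_) P
  · obtain ⟨g', hgd', eG', eD'⟩ := (hL L).ex
    exact ⟨g', g', hg g' hgd', hg g' hgd', eG', eD'⟩
  obtain ⟨n, hn, hM⟩ := hn
  set a : ZMod r := (Fintype.card F : ZMod r) with ha
  have ha0 : a ≠ 0 := fun h0 => hrq ((ZMod.natCast_eq_zero_iff _ _).1 h0)
  obtain ⟨i, hi, hdi⟩ := exists_deg hq hrq ds (e := e) (eG ▸ dvd_mul_of_dvd_right hrG g)
  rcases hgood i hi (orderOf a) (Nat.mem_divisors.2 ⟨hdi, (hds i hi).1.ne'⟩) with h1 | ⟨h1, h2⟩ | h1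
  · exact (mult_le_dim a).trans h1
  · exact mult_le_of_totient hn hM ha0 h1 (h2.trans_le (Nat.mul_le_mul_left _ (by omega)))
  · exact hspec w hw n hn hM a ha0 h1

theorem orderOK_G2 : OrderOK chevG2 F tabG2.l 6 1 [2, 6] :=
  ⟨1, dvd_rfl.trans (one_dvd _), by simpa [mul_assoc] using card_groupG2 (F := F),
    by rw [one_mul]; exact card_diagonalG2⟩

theorem orderOK_B2 : OrderOK chevB2 F tabB2.l 4 2 [2, 4] :=
  ⟨_, (Nat.gcd_dvd_left _ _).trans (dvd_pow_self _ two_ne_zero),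
    by simpa [mul_assoc] using card_groupB2 (F := F), card_diagonalB2⟩

theorem orderOK_D4 : OrderOK chevD4 F tabD4.l 12 4 [2, 4, 4, 6] :=
  ⟨_, (pow_dvd_pow_of_dvd (Nat.gcd_dvd_left _ _) 2).trans (by norm_num),
    by simpa [mul_assoc] using card_groupD4 (F := F), card_diagonalD4⟩

theorem orderOK_F4 : OrderOK chevF4 F tabF4.l 24 1 [2, 6, 8, 12] :=
  ⟨1, one_dvd _, by simpa [mul_assoc] using card_groupF4 (F := F),
    by rw [one_mul]; exact card_diagonalF4⟩

theorem orderOK_E6 : OrderOK chevE6 F tabE6.l 36 3 [2, 5, 6, 8, 9, 12] :=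
  ⟨_, (Nat.gcd_dvd_left _ _).trans (dvd_pow_self _ two_ne_zero),
    by simpa [mul_assoc] using card_groupE6 (F := F), card_diagonalE6⟩

theorem orderOK_E7 : OrderOK chevE7 F tabE7.l 63 2 [2, 6, 8, 10, 12, 14, 18] :=
  ⟨_, (Nat.gcd_dvd_left _ _).trans (dvd_pow_self _ two_ne_zero),
    by simpa [mul_assoc] using card_groupE7 (F := F), card_diagonalE7⟩

theorem orderOK_E8 : OrderOK chevE8 F tabE8.l 120 1 [2, 8, 12, 14, 18, 20, 24, 30] :=
  ⟨1, one_dvd _, by simpa [mul_assoc] using card_groupE8 (F := F),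
    by rw [one_mul]; exact card_diagonalE8⟩

theorem le_of_not_dvd {n r₀ : ℕ} (hn : ¬ r ∣ n) (h : ∀ p < r₀, p.Prime → p ∣ n) : r₀ ≤ r :=
  not_lt.1 fun hlt => hn (h r hlt Fact.out)

omit [Fact r.Prime] in
theorem not_dvd_of_dvd {n δ : ℕ} (hn : ¬ r ∣ n) (h : δ ∣ n) : ¬ r ∣ δ :=
  fun hd => hn (hd.trans h)

omit [Fact r.Prime] in
theorem degs_ok {ds : List ℕ} (hn : ¬ r ∣ ds.prod) (h : ∀ i ∈ ds, 0 < i) :
    ∀ i ∈ ds, 0 < i ∧ ¬ r ∣ i :=
  fun i hi => ⟨h i hi, fun hd => hn (hd.trans (List.dvd_prod hi))⟩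

theorem sylow_G2 (hrq : ¬ r ∣ Fintype.card F) (hrW : ¬ r ∣ ([2, 6] : List ℕ).prod)
    (hrG : r ∣ Nat.card ↥(chevG2.group F)) (P : Sylow r ↥(chevG2.group F)) :
    Nonempty (↥(P : Subgroup ↥(chevG2.group F)) ≃*
      (Fin (([2, 6] : List ℕ).filter fun i => orderOf (Fintype.card F : ZMod r) ∣ i).length →
        Multiplicative (ZMod (r ^ padicValNat r
          ((Polynomial.cyclotomic (orderOf (Fintype.card F : ZMod r)) ℤ).eval
            (Fintype.card F : ℤ)).natAbs)))) := by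
  have h5 : 5 ≤ r := le_of_not_dvd hrW (by decide +kernel)
  have hrδ : ¬ r ∣ 1 := not_dvd_of_dvd hrW (by decide +kernel)
  exact sylow_of_type certG2 (δ := 1) (Mi := matOf tabG2.l [[2, 1], [3, 2]]) (by decide +kernel) hrq hrδ [2, 6] 6 rfl
    (degs_ok hrW (by decide +kernel)) (fun L _ _ => orderOK_G2) orderOK_G2 5 h5 []
    (by decide +kernel)
    (fun _ _ _ _ _ _ _ hd => absurd hd List.not_mem_nil) hrG P

theorem sylow_B2 (hrq : ¬ r ∣ Fintype.card F) (hrW : ¬ r ∣ ([2, 4] : List ℕ).prod)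
    (hrG : r ∣ Nat.card ↥(chevB2.group F)) (P : Sylow r ↥(chevB2.group F)) :
    Nonempty (↥(P : Subgroup ↥(chevB2.group F)) ≃*
      (Fin (([2, 4] : List ℕ).filter fun i => orderOf (Fintype.card F : ZMod r) ∣ i).length →
        Multiplicative (ZMod (r ^ padicValNat r
          ((Polynomial.cyclotomic (orderOf (Fintype.card F : ZMod r)) ℤ).eval
            (Fintype.card F : ℤ)).natAbs)))) := by
  have h5 : 3 ≤ r := le_of_not_dvd hrW (by decide +kernel)
  have hrδ : ¬ r ∣ 2 := not_dvd_of_dvd hrW (by decide +kernel)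
  exact sylow_of_type certB2 (δ := 2) (Mi := matOf tabB2.l [[2, 1], [2, 2]]) (by decide +kernel) hrq hrδ [2, 4] 4 rfl
    (degs_ok hrW (by decide +kernel)) (fun L _ _ => orderOK_B2) orderOK_B2 3 h5 []
    (by decide +kernel)
    (fun _ _ _ _ _ _ _ hd => absurd hd List.not_mem_nil) hrG P

theorem sylow_D4 (hrq : ¬ r ∣ Fintype.card F) (hrW : ¬ r ∣ ([2, 4, 4, 6] : List ℕ).prod)
    (hrG : r ∣ Nat.card ↥(chevD4.group F)) (P : Sylow r ↥(chevD4.group F)) :
    Nonempty (↥(P : Subgroup ↥(chevD4.group F)) ≃*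
      (Fin (([2, 4, 4, 6] : List ℕ).filter fun i => orderOf (Fintype.card F : ZMod r) ∣ i).length →
        Multiplicative (ZMod (r ^ padicValNat r
          ((Polynomial.cyclotomic (orderOf (Fintype.card F : ZMod r)) ℤ).eval
            (Fintype.card F : ℤ)).natAbs)))) := by
  have h5 : 5 ≤ r := le_of_not_dvd hrW (by decide +kernel)
  have hrδ : ¬ r ∣ 4 := not_dvd_of_dvd hrW (by decide +kernel)
  exact sylow_of_type certD4 (δ := 4) (Mi := kKD4) (by decide +kernel) hrq hrδ [2, 4, 4, 6] 12 rfl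
    (degs_ok hrW (by decide +kernel)) (fun L _ _ => orderOK_D4) orderOK_D4 5 h5 [3, 6]
    (by decide +kernel)
    (fun w hw n hn hM a ha hd => by
      simp only [List.mem_cons, List.not_mem_nil, or_false] at hd
      refine (boundD4 hw hn hM ha hd h5).trans (le_of_eq ?_)
      rcases hd with e | e <;> rw [e] <;> decide) hrG P

theorem sylow_F4 (hrq : ¬ r ∣ Fintype.card F) (hrW : ¬ r ∣ ([2, 6, 8, 12] : List ℕ).prod)
    (hrG : r ∣ Nat.card ↥(chevF4.group F)) (P : Sylow r ↥(chevF4.group F)) :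
    Nonempty (↥(P : Subgroup ↥(chevF4.group F)) ≃*
      (Fin (([2, 6, 8, 12] : List ℕ).filter fun i => orderOf (Fintype.card F : ZMod r) ∣ i).length →
        Multiplicative (ZMod (r ^ padicValNat r
          ((Polynomial.cyclotomic (orderOf (Fintype.card F : ZMod r)) ℤ).eval
            (Fintype.card F : ℤ)).natAbs)))) := by
  have h5 : 5 ≤ r := le_of_not_dvd hrW (by decide +kernel)
  have hrδ : ¬ r ∣ 1 := not_dvd_of_dvd hrW (by decide +kernel)
  exact sylow_of_type certF4 (δ := 1) (Mi := matOf tabF4.l [[2, 3, 2, 1], [3, 6, 4, 2], [4, 8, 6, 3], [2, 4, 3, 2]]) (by decide +kernel) hrq hrδ [2, 6, 8, 12] 24 rfl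
    (degs_ok hrW (by decide +kernel)) (fun L _ _ => orderOK_F4) orderOK_F4 5 h5 []
    (by decide +kernel)
    (fun _ _ _ _ _ _ _ hd => absurd hd List.not_mem_nil) hrG P

theorem sylow_E6 (hrq : ¬ r ∣ Fintype.card F) (hrW : ¬ r ∣ ([2, 5, 6, 8, 9, 12] : List ℕ).prod)
    (hrG : r ∣ Nat.card ↥(chevE6.group F)) (P : Sylow r ↥(chevE6.group F)) :
    Nonempty (↥(P : Subgroup ↥(chevE6.group F)) ≃*
      (Fin (([2, 5, 6, 8, 9, 12] : List ℕ).filter fun i => orderOf (Fintype.card F : ZMod r) ∣ i).length →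
        Multiplicative (ZMod (r ^ padicValNat r
          ((Polynomial.cyclotomic (orderOf (Fintype.card F : ZMod r)) ℤ).eval
            (Fintype.card F : ℤ)).natAbs)))) := by
  have h5 : 7 ≤ r := le_of_not_dvd hrW (by decide +kernel)
  have hrδ : ¬ r ∣ 3 := not_dvd_of_dvd hrW (by decide +kernel)
  exact sylow_of_type certE6 (δ := 3) (Mi := kKE6) (by decide +kernel) hrq hrδ [2, 5, 6, 8, 9, 12] 36 rfl
    (degs_ok hrW (by decide +kernel)) (fun L _ _ => orderOK_E6) orderOK_E6 7 h5 [2, 4, 6]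
    (by decide +kernel)
    (fun w hw n hn hM a ha hd => by
      simp only [List.mem_cons, List.not_mem_nil, or_false] at hd
      rcases hd with e | e | e
      · refine (boundE6two hw hn hM ha e h5).trans (le_of_eq ?_)
        rw [e]; decide
      · refine (boundE6 hw hn hM ha (.inl e) h5).trans (le_of_eq ?_)
        rw [e]; decide
      · refine (boundE6 hw hn hM ha (.inr e) h5).trans (le_of_eq ?_)
        rw [e]; decide) hrG P

theorem sylow_E7 (hrq : ¬ r ∣ Fintype.card F) (hrW : ¬ r ∣ ([2, 6, 8, 10, 12, 14, 18] : List ℕ).prod)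
    (hrG : r ∣ Nat.card ↥(chevE7.group F)) (P : Sylow r ↥(chevE7.group F)) :
    Nonempty (↥(P : Subgroup ↥(chevE7.group F)) ≃*
      (Fin (([2, 6, 8, 10, 12, 14, 18] : List ℕ).filter fun i => orderOf (Fintype.card F : ZMod r) ∣ i).length →
        Multiplicative (ZMod (r ^ padicValNat r
          ((Polynomial.cyclotomic (orderOf (Fintype.card F : ZMod r)) ℤ).eval
            (Fintype.card F : ℤ)).natAbs)))) := by
  have h5 : 11 ≤ r := le_of_not_dvd hrW (by decide +kernel)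
  have hrδ : ¬ r ∣ 2 := not_dvd_of_dvd hrW (by decide +kernel)
  exact sylow_of_type certE7 (δ := 2) (Mi := kKE7) (by decide +kernel) hrq hrδ [2, 6, 8, 10, 12, 14, 18] 63 rfl
    (degs_ok hrW (by decide +kernel)) (fun L _ _ => orderOK_E7) orderOK_E7 11 h5 [4]
    (by decide +kernel)
    (fun w hw n hn hM a ha hd => by
      simp only [List.mem_cons, List.not_mem_nil, or_false] at hd
      refine (boundE7 hw hn hM ha hd h5).trans (le_of_eq ?_)
      rw [hd]; decide) hrG P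

theorem sylow_E8 (hrq : ¬ r ∣ Fintype.card F) (hrW : ¬ r ∣ ([2, 8, 12, 14, 18, 20, 24, 30] : List ℕ).prod)
    (hrG : r ∣ Nat.card ↥(chevE8.group F)) (P : Sylow r ↥(chevE8.group F)) :
    Nonempty (↥(P : Subgroup ↥(chevE8.group F)) ≃*
      (Fin (([2, 8, 12, 14, 18, 20, 24, 30] : List ℕ).filter fun i => orderOf (Fintype.card F : ZMod r) ∣ i).length →
        Multiplicative (ZMod (r ^ padicValNat r
          ((Polynomial.cyclotomic (orderOf (Fintype.card F : ZMod r)) ℤ).eval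
            (Fintype.card F : ℤ)).natAbs)))) := by
  have h5 : 11 ≤ r := le_of_not_dvd hrW (by decide +kernel)
  have hrδ : ¬ r ∣ 1 := not_dvd_of_dvd hrW (by decide +kernel)
  exact sylow_of_type certE8 (δ := 1) (Mi := matOf tabE8.l [[4, 5, 7, 10, 8, 6, 4, 2], [5, 8, 10, 15, 12, 9, 6, 3], [7, 10, 14, 20, 16, 12, 8, 4], [10, 15, 20, 30, 24, 18, 12, 6], [8, 12, 16, 24, 20, 15, 10, 5], [6, 9, 12, 18, 15, 12, 8, 4], [4, 6, 8, 12, 10, 8, 6, 3], [2, 3, 4, 6, 5, 4, 3, 2]]) (by decide +kernel) hrq hrδ [2, 8, 12, 14, 18, 20, 24, 30] 120 rfl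
    (degs_ok hrW (by decide +kernel)) (fun L _ _ => orderOK_E8) orderOK_E8 11 h5 []
    (by decide +kernel)
    (fun _ _ _ _ _ _ _ hd => absurd hd List.not_mem_nil) hrG P

end CfsgLib.Chev.SylowTorus
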