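import Mathlib

/-!
Characteristic polynomials of integer matrices of finite order, modulo a prime.
-/

set_option autoImplicit false

namespace CfsgLib.Chev.SylowTorus

open Matrix Polynomial

variable {l : ℕ} {M : Matrix (Fin l) (Fin l) ℤ}

/-- The characteristic polynomial of a matrix of finite order divides a power of `X ^ n - 1`. -/
theorem charpoly_dvd {n : ℕ} (hn : 0 < n) (hM : M ^ n = 1) :
    M.charpoly ∣ ((X : ℤ[X]) ^ n - 1) ^ l := by
  classical
  set g : ℤ[X] := X ^ n - 1 with hg
  have hgm : g.Monic := monic_X_pow_sub_C 1 hn.ne'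
  rw [← Polynomial.map_dvd_map (Int.castRingHom ℂ) Int.cast_injective (charpoly_monic M),
    ← Matrix.charpoly_map, Polynomial.map_pow]
  set A := M.map (Int.castRingHom ℂ) with hA
  have hA1 : A ^ n = 1 := by rw [hA, ← Matrix.map_pow, hM, Matrix.map_one _ (map_zero _) (map_one _)]
  have hne : (g.map (Int.castRingHom ℂ)) ^ l ≠ 0 := pow_ne_zero _ (hgm.map _).ne_zero
  refine (IsAlgClosed.splits _).dvd_of_roots_le_roots (charpoly_monic A).ne_zero
    (Multiset.le_iff_count.2 fun θ => ?_)
  by_cases hθ : θ ∈ A.charpoly.roots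
  · obtain ⟨v, hv, hAv⟩ := Matrix.exists_mulVec_eq_zero_iff.2
      (show (Matrix.scalar (Fin l) θ - A).det = 0 by
        rw [← Matrix.eval_charpoly]; exact (mem_roots'.1 hθ).2)
    have h1 : A *ᵥ v = θ • v := by
      rw [Matrix.sub_mulVec, sub_eq_zero, Matrix.scalar_apply] at hAv
      rw [← hAv]
      funext i
      simp [Matrix.mulVec_diagonal]
    have h2 : ∀ j : ℕ, (A ^ j) *ᵥ v = θ ^ j • v := fun j => by
      induction j with
      | zero => simp
      | succ j ih => rw [pow_succ', ← Matrix.mulVec_mulVec, ih, Matrix.mulVec_smul, h1, smul_smul, pow_succ]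
    have h3 : θ ^ n = 1 := by
      have h4 := h2 n
      rw [hA1, Matrix.one_mulVec] at h4
      by_contra hne
      exact hv ((smul_eq_zero.1 (show (θ ^ n - 1) • v = 0 by
        rw [sub_smul, one_smul, ← h4, sub_self])).resolve_left (sub_ne_zero.2 hne))
    have h5 : θ ∈ (g.map (Int.castRingHom ℂ)).roots :=
      mem_roots'.2 ⟨(hgm.map _).ne_zero, by simp [hg, h3]⟩
    calc A.charpoly.roots.count θ ≤ Multiset.card A.charpoly.roots := Multiset.count_le_card _ _
      _ ≤ l := (card_roots' _).trans (by rw [Matrix.charpoly_natDegree_eq_dim, Fintype.card_fin])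
      _ ≤ _ := by
        rw [Polynomial.roots_pow, Multiset.count_nsmul]
        exact Nat.le_mul_of_pos_right _ (Multiset.count_pos.2 h5)
  · rw [Multiset.count_eq_zero.2 hθ]; exact Nat.zero_le _

variable {r : ℕ} [Fact r.Prime]

/-- Splitting off the multiplicity of a cyclotomic polynomial. -/
theorem exists_mult {n : ℕ} (hn : 0 < n) (hM : M ^ n = 1) {a : ZMod r} (ha : a ≠ 0)
    (hwild : ∀ j : ℕ, ¬ cyclotomic (r ^ (j + 1) * orderOf a) ℤ ∣ M.charpoly) :
    ∃ (k : ℕ) (R : ℤ[X]), M.charpoly = cyclotomic (orderOf a) ℤ ^ k * R ∧ R.Monic ∧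
      ¬ cyclotomic (orderOf a) ℤ ∣ R ∧ k * (orderOf a).totient + R.natDegree = l ∧
      ((M.charpoly).map (Int.castRingHom (ZMod r))).rootMultiplicity a ≤ k := by
  classical
  set d := orderOf a with hd
  have hr : r.Prime := Fact.out
  have hd1 : d ∣ r - 1 := ZMod.orderOf_dvd_card_sub_one ha
  have hd0 : 0 < d := Nat.pos_of_dvd_of_pos hd1 (by have := hr.two_le; omega)
  have hdr : ¬ r ∣ d := fun h => by
    have h1 := Nat.le_of_dvd (by have := hr.two_le; omega) hd1
    have h2 := Nat.le_of_dvd hd0 h
    have := hr.two_le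
    omega
  obtain ⟨R, hR, hRn⟩ := (Polynomial.finiteMultiplicity_of_degree_pos_of_monic
    (degree_cyclotomic_pos d ℤ hd0) (cyclotomic.monic d ℤ)
    (charpoly_monic M).ne_zero).exists_eq_pow_mul_and_not_dvd
  set k := multiplicity (cyclotomic d ℤ) M.charpoly
  have hRm : R.Monic := ((cyclotomic.monic d ℤ).pow k).of_mul_monic_left (hR ▸ charpoly_monic M)
  have hdeg : k * d.totient + R.natDegree = l := by
    have h1 := congrArg natDegree hR
    rw [Matrix.charpoly_natDegree_eq_dim, Fintype.card_fin,
      ((cyclotomic.monic d ℤ).pow k).natDegree_mul hRm, natDegree_pow, natDegree_cyclotomic] at h1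
    omega
  have hroot : ¬ (R.map (Int.castRingHom (ZMod r))).IsRoot a := by
    intro hra
    set S := (Nat.divisors n).filter fun e => cyclotomic e ℤ ∣ R with hS
    have hdv : R ∣ (∏ e ∈ S, cyclotomic e ℤ) ^ l := by
      rw [← Polynomial.map_dvd_map (Int.castRingHom ℚ) Int.cast_injective hRm, Polynomial.map_pow,
        Polynomial.map_prod]
      have h0 : R.map (Int.castRingHom ℚ) ∣
          (∏ e ∈ Nat.divisors n, cyclotomic e ℚ) ^ l := by
        rw [prod_cyclotomic_eq_X_pow_sub_one hn]
        have h1 := Polynomial.map_dvd (Int.castRingHom ℚ) (x := R)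
          ((Dvd.intro_left _ hR.symm).trans (charpoly_dvd hn hM))
        simpa using h1
      rw [← Finset.prod_filter_mul_prod_filter_not (Nat.divisors n) fun e => cyclotomic e ℤ ∣ R,
        mul_pow] at h0
      refine IsCoprime.dvd_of_dvd_mul_right (IsCoprime.pow_right ?_) (by simpa only [map_cyclotomic] using h0)
      refine IsCoprime.prod_right fun e he => ?_
      obtain ⟨hen, hne⟩ := Finset.mem_filter.1 he
      refine ((cyclotomic.irreducible_rat (Nat.pos_of_mem_divisors hen)).coprime_iff_not_dvd.2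
        fun hh => hne ?_).symm
      rw [← map_cyclotomic e (Int.castRingHom ℚ),
        Polynomial.map_dvd_map (Int.castRingHom ℚ) Int.cast_injective (cyclotomic.monic e ℤ)] at hh
      exact hh
    have h2 := Polynomial.eval_dvd (x := a) (Polynomial.map_dvd (Int.castRingHom (ZMod r)) hdv)
    rw [hra.eq_zero, zero_dvd_iff, Polynomial.map_pow, eval_pow] at h2
    have h3 := (pow_eq_zero_iff'.1 h2).1
    rw [Polynomial.map_prod, eval_prod, Finset.prod_eq_zero_iff] at h3
    obtain ⟨e, he, hea⟩ := h3
    rw [map_cyclotomic] at hea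
    obtain ⟨hen, heR⟩ := Finset.mem_filter.1 he
    obtain ⟨j, m, hm, rfl⟩ :=
      Nat.exists_eq_pow_mul_and_not_dvd (Nat.pos_of_mem_divisors hen).ne' r hr.ne_one
    have hne : NeZero (m : ZMod r) := ⟨fun h => hm ((ZMod.natCast_eq_zero_iff _ _).1 h)⟩
    have h4 : IsPrimitiveRoot a m := by
      rwa [← Polynomial.IsRoot, Polynomial.isRoot_cyclotomic_prime_pow_mul_iff_of_charP] at hea
    rw [← h4.eq_orderOf.trans hd.symm] at hwild hRn
    cases j with
    | zero => exact hRn (by simpa using heR)
    | succ j => exact hwild j (heR.trans (Dvd.intro_left _ hR.symm))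
  refine ⟨k, R, hR, hRm, hRn, hdeg, ?_⟩
  rw [hR, Polynomial.map_mul, Polynomial.map_pow, map_cyclotomic,
    Polynomial.rootMultiplicity_mul (mul_ne_zero (pow_ne_zero _ (cyclotomic.monic d _).ne_zero)
      (hRm.map _).ne_zero), rootMultiplicity_eq_zero hroot, add_zero, ← count_roots, roots_pow,
    Multiset.count_nsmul, count_roots]
  have : NeZero (d : ZMod r) := ⟨fun h => hdr ((ZMod.natCast_eq_zero_iff _ _).1 h)⟩
  calc k * (cyclotomic d (ZMod r)).rootMultiplicity a ≤ k * 1 :=
        Nat.mul_le_mul_left _ (rootMultiplicity_le_one_of_separable (separable_cyclotomic d (ZMod r)) a)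
    _ = k := mul_one k

/-- Eigenspaces of row vectors have dimension at most the multiplicity of the root. -/
theorem card_eigen_le (a : ZMod r) :
    Nat.card {x : Fin l → ZMod r // x ᵥ* M.map (Int.castRingHom (ZMod r)) = a • x} ≤
      r ^ ((M.charpoly).map (Int.castRingHom (ZMod r))).rootMultiplicity a := by
  classical
  set A := (M.map (Int.castRingHom (ZMod r))).transpose with hA
  have h1 := LinearMap.finrank_eigenspace_le (Matrix.toLin' A) a
  rw [Matrix.charpoly_toLin', hA, Matrix.charpoly_transpose, Matrix.charpoly_map] at h1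
  refine le_trans (le_of_eq ?_) (Nat.pow_le_pow_right (Fact.out : r.Prime).pos h1)
  have e : {x : Fin l → ZMod r // x ᵥ* M.map (Int.castRingHom (ZMod r)) = a • x} ≃
      ↥(Module.End.eigenspace (Matrix.toLin' A) a) :=
    Equiv.subtypeEquivRight fun x => by
      rw [Module.End.mem_eigenspace_iff, Matrix.toLin'_apply, hA, Matrix.mulVec_transpose]
  rw [Nat.card_congr e, Module.natCard_eq_pow_finrank (K := ZMod r), Nat.card_zmod]

end CfsgLib.Chev.SylowTorus
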