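import Mathlib

/-!
An abelian group of exponent `r ^ a`, order `r ^ (a N)` and rank at most `N` is homocyclic.
-/

set_option autoImplicit false

namespace CfsgLib.Chev.SylowTorus

theorem homocyclic {A : Type*} [CommGroup A] [Finite A] {r a N : ℕ} [Fact r.Prime] (ha : 0 < a)
    (hexp : ∀ x : A, x ^ r ^ a = 1) (hcard : Nat.card A = r ^ (a * N))
    (htor : Nat.card {x : A // x ^ r = 1} ≤ r ^ N) :
    Nonempty (A ≃* (Fin N → Multiplicative (ZMod (r ^ a)))) := by
  classical
  have hr : r.Prime := Fact.out
  obtain ⟨ι, _, m, hm, ⟨e⟩⟩ := CommGroup.equiv_prod_multiplicative_zmod_of_finite A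
  have hdvd : ∀ i, m i ∣ r ^ a := fun i => by
    have h1 := hexp (e.symm (Pi.mulSingle i (Multiplicative.ofAdd 1)))
    rw [← map_pow, ← map_one e.symm, e.symm.injective.eq_iff, ← Pi.mulSingle_pow,
      Pi.mulSingle_eq_one_iff] at h1
    have h2 : ((r ^ a : ℕ) : ZMod (m i)) = 0 := by
      have h3 := congrArg Multiplicative.toAdd h1
      simpa using h3
    exact (ZMod.natCast_eq_zero_iff _ _).1 h2
  choose b hb hbm using fun i => (Nat.dvd_prime_pow hr).1 (hdvd i)
  have hb0 : ∀ i, 0 < b i := fun i => Nat.pos_of_ne_zero fun h0 => by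
    have := hm i; rw [hbm, h0] at this; simp at this
  have hsum : ∑ i, b i = a * N := by
    refine Nat.pow_right_injective hr.two_le ?_
    show r ^ _ = r ^ _
    rw [← hcard, Nat.card_congr e.toEquiv, Nat.card_pi, ← Finset.prod_pow_eq_pow_sum]
    exact Finset.prod_congr rfl fun i _ => by
      rw [Nat.card_congr Multiplicative.toAdd, Nat.card_zmod, hbm]
  have hι : r ^ Fintype.card ι ≤ r ^ N := by
    refine le_trans ?_ htor
    let f : (∀ i, ↥((powMonoidHom r : Multiplicative (ZMod (m i)) →* _).ker)) → {x : A // x ^ r = 1} :=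
      fun c => ⟨e.symm fun i => (c i).1, by
        rw [← map_pow, ← map_one e.symm]
        exact congrArg _ (funext fun i => MonoidHom.mem_ker.1 (c i).2)⟩
    have hf : Function.Injective f := fun c c' h => funext fun i =>
      Subtype.ext (congrFun (e.symm.injective (congrArg Subtype.val h)) i)
    refine le_trans (le_of_eq ?_) (Nat.card_le_card_of_injective f hf)
    have : ∀ i, NeZero (m i) := fun i => ⟨by have := hm i; omega⟩
    rw [Nat.card_pi, Finset.prod_congr rfl fun i _ => show _ = r from ?_, Finset.prod_const,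
      Finset.card_univ]
    rw [IsCyclic.card_powMonoidHom_ker, Nat.card_congr Multiplicative.toAdd, Nat.card_zmod, hbm,
      Nat.gcd_eq_right (dvd_pow_self r (hb0 i).ne')]
  have hιN : Fintype.card ι ≤ N := (Nat.pow_le_pow_iff_right hr.one_lt).1 hι
  have hle : ∑ i, b i ≤ Fintype.card ι * a := by
    have := Finset.sum_le_sum (s := Finset.univ) fun i _ => hb i
    simpa using this
  have hιe : Fintype.card ι = N := by
    refine le_antisymm hιN (Nat.le_of_mul_le_mul_left ?_ ha)
    rw [← hsum, mul_comm]; exact hle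
  have hball : ∀ i, b i = a := fun i => by
    by_contra hne
    have := Finset.sum_lt_sum (fun j _ => hb j) ⟨i, Finset.mem_univ i, lt_of_le_of_ne (hb i) hne⟩
    simp [hιe] at this
    rw [hsum, mul_comm] at this
    omega
  have hme : m = fun _ => r ^ a := funext fun i => by rw [hbm, hball]
  subst hme
  exact ⟨e.trans (MulEquiv.arrowCongr ((Fintype.equivFin ι).trans (finCongr hιe)) (MulEquiv.refl _))⟩

end CfsgLib.Chev.SylowTorus
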