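import Cfsg.Agent.Lib.Chev.SylowTorus.Charpoly

/-!
Isometries of an even lattice acting trivially on the discriminant group: excluded shapes.
-/

set_option autoImplicit false

namespace CfsgLib.Chev.SylowTorus

open Matrix Polynomial

variable {l : ℕ}

/-- The certificate of a scaled inverse of an even Cartan matrix. -/
structure Ev (C K : Matrix (Fin l) (Fin l) ℤ) (δ : ℤ)
    (Ec U : Matrix (Fin l) (Fin l) ℤ) (D : Fin l → ℕ) (c : ℕ) : Prop where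
  symm : Kᵀ = K
  inv : K * C = δ • 1
  even : C = Ec + Ecᵀ
  psd : (c : ℤ) • K = Uᵀ * Matrix.diagonal (fun i => (D i : ℤ)) * U
  cpos : 0 < c
  δpos : 0 < δ

/-- The matrix preserves the form and is trivial modulo the image of `C`. -/
def Iso (C K M : Matrix (Fin l) (Fin l) ℤ) : Prop := Mᵀ * K * M = K ∧ ∃ N, M = 1 + C * N

theorem iso_one {C K : Matrix (Fin l) (Fin l) ℤ} : Iso C K 1 :=
  ⟨by simp, 0, by simp⟩

theorem iso_mul {C K M M' : Matrix (Fin l) (Fin l) ℤ} (h : Iso C K M) (h' : Iso C K M') :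
    Iso C K (M * M') := by
  obtain ⟨hM, N, hN⟩ := h
  obtain ⟨hM', N', hN'⟩ := h'
  refine ⟨?_, N + N' + N * C * N', ?_⟩
  · rw [Matrix.transpose_mul, show M'ᵀ * Mᵀ * K * (M * M') = M'ᵀ * (Mᵀ * K * M) * M' by noncomm_ring,
      hM, hM']
  · rw [hN, hN']; noncomm_ring

theorem iso_list_prod {C K : Matrix (Fin l) (Fin l) ℤ} (L : List (Matrix (Fin l) (Fin l) ℤ))
    (h : ∀ M ∈ L, Iso C K M) : Iso C K L.prod := by
  induction L with
  | nil => simpa using iso_one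
  | cons a L ih =>
    rw [List.prod_cons]
    exact iso_mul (h a List.mem_cons_self) (ih fun M hM => h M (List.mem_cons_of_mem _ hM))

/-- The quadratic form. -/
def qf (K : Matrix (Fin l) (Fin l) ℤ) (y : Fin l → ℤ) : ℤ := y ⬝ᵥ K *ᵥ y

theorem dot_transpose (E : Matrix (Fin l) (Fin l) ℤ) (y : Fin l → ℤ) :
    y ⬝ᵥ Eᵀ *ᵥ y = y ⬝ᵥ E *ᵥ y := by
  rw [Matrix.mulVec_transpose, dotProduct_comm, ← Matrix.dotProduct_mulVec]

theorem qf_mod {K E : Matrix (Fin l) (Fin l) ℤ} {δ k : ℤ} {u : Fin l → ℤ}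
    (hrem : K - k • (Matrix.of fun i j => u i * u j) = δ • (E + Eᵀ)) (y : Fin l → ℤ) :
    ∃ j, qf K y = k * (u ⬝ᵥ y) ^ 2 + 2 * δ * j := by
  refine ⟨y ⬝ᵥ E *ᵥ y, ?_⟩
  have h1 : K = k • (Matrix.of fun i j => u i * u j) + δ • (E + Eᵀ) := by rw [← hrem]; abel
  unfold qf
  rw [h1]
  simp only [Matrix.add_mulVec, Matrix.smul_mulVec, dotProduct_add, dotProduct_smul, smul_eq_mul,
    dot_transpose]
  rw [show y ⬝ᵥ (Matrix.of fun i j => u i * u j) *ᵥ y = (u ⬝ᵥ y) ^ 2 by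
    simp only [dotProduct, Matrix.mulVec, Matrix.of_apply, sq, Finset.sum_mul, Finset.mul_sum]
    exact Finset.sum_congr rfl fun i _ => Finset.sum_congr rfl fun j _ => by ring]
  ring

variable {C K : Matrix (Fin l) (Fin l) ℤ} {δ : ℤ}
  {Ec U : Matrix (Fin l) (Fin l) ℤ} {D : Fin l → ℕ} {c : ℕ} (h : Ev C K δ Ec U D c)
include h

theorem bil_comm (x y : Fin l → ℤ) : x ⬝ᵥ K *ᵥ y = y ⬝ᵥ K *ᵥ x := by
  conv_lhs => rw [← h.symm]
  rw [Matrix.mulVec_transpose, dotProduct_comm, ← Matrix.dotProduct_mulVec]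

theorem qf_image (n : Fin l → ℤ) : ∃ j, qf K (C *ᵥ n) = 2 * δ * j := by
  refine ⟨n ⬝ᵥ Ec *ᵥ n, ?_⟩
  unfold qf
  rw [Matrix.mulVec_mulVec, h.inv, Matrix.smul_mulVec, Matrix.one_mulVec, dotProduct_smul,
    dotProduct_comm, h.even, Matrix.add_mulVec, dotProduct_add, dot_transpose, smul_eq_mul]
  ring

theorem qf_nonneg (y : Fin l → ℤ) : 0 ≤ qf K y := by
  refine nonneg_of_mul_nonneg_right (a := (c : ℤ)) ?_ (by exact_mod_cast h.cpos)
  show 0 ≤ (c : ℤ) * (y ⬝ᵥ K *ᵥ y)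
  rw [← smul_eq_mul, ← dotProduct_smul, ← Matrix.smul_mulVec, h.psd, ← Matrix.mulVec_mulVec,
    ← Matrix.mulVec_mulVec, Matrix.mulVec_transpose, dotProduct_comm, ← Matrix.dotProduct_mulVec,
    dotProduct]
  exact Finset.sum_nonneg fun i _ => by
    rw [Matrix.mulVec_diagonal, mul_assoc]
    exact mul_nonneg (by positivity) (mul_self_nonneg _)

theorem eq_zero_of_pair {v : Fin l → ℤ} (hv : ∀ y : Fin l → ℤ, y ⬝ᵥ K *ᵥ v = 0) : v = 0 := by
  have h1 : K *ᵥ v = 0 := funext fun i => by simpa using hv (Pi.single i 1)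
  have h2 : C * K = δ • 1 := by
    have hC : Cᵀ = C := by
      rw [h.even, Matrix.transpose_add, Matrix.transpose_transpose, add_comm]
    have := congrArg Matrix.transpose h.inv
    rwa [Matrix.transpose_mul, h.symm, hC, Matrix.transpose_smul, Matrix.transpose_one] at this
  have h3 := congrArg (fun w => C *ᵥ w) h1
  simp only [Matrix.mulVec_mulVec, h2, Matrix.smul_mulVec, Matrix.one_mulVec, Matrix.mulVec_zero] at h3
  exact (smul_eq_zero.1 h3).resolve_left h.δpos.ne'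

variable {M : Matrix (Fin l) (Fin l) ℤ}

omit h in
theorem bil_map (hM : Iso C K M) (x y : Fin l → ℤ) : (M *ᵥ x) ⬝ᵥ K *ᵥ (M *ᵥ y) = x ⬝ᵥ K *ᵥ y := by
  conv_rhs => rw [← hM.1]
  rw [← Matrix.mulVec_mulVec, ← Matrix.mulVec_mulVec, Matrix.mulVec_transpose, dotProduct_comm x,
    ← Matrix.dotProduct_mulVec, dotProduct_comm _ (M *ᵥ x)]

theorem qf_diff (hM : Iso C K M) (y : Fin l → ℤ) : ∃ j, qf K (M *ᵥ y - y) = 2 * δ * j := by
  obtain ⟨N, hN⟩ := hM.2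
  rw [show M *ᵥ y - y = C *ᵥ (N *ᵥ y) by
    rw [hN, Matrix.add_mulVec, Matrix.one_mulVec, Matrix.mulVec_mulVec]; abel]
  exact qf_image h _

/-- `M² + t M + 1 = 0` scales the form of `M y - y`. -/
theorem no_quadratic (hM : Iso C K M) (t : ℤ) (h2 : M * M + t • M + 1 = 0)
    (i : Fin l) (hi : ¬ 2 * δ ∣ (2 + t) * K i i) : False := by
  set y : Fin l → ℤ := Pi.single i 1
  obtain ⟨j, hj⟩ := qf_diff h hM y
  have hq : qf K y = K i i := by simp [qf, y]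
  have hw : M *ᵥ (M *ᵥ y) + t • (M *ᵥ y) + y = 0 := by
    have := congrArg (fun X => X *ᵥ y) h2
    simpa only [Matrix.add_mulVec, Matrix.smul_mulVec, ← Matrix.mulVec_mulVec, Matrix.one_mulVec, Matrix.zero_mulVec] using this
  have h3 := congrArg (fun w => (M *ᵥ y) ⬝ᵥ K *ᵥ w) hw
  simp only [Matrix.mulVec_add, Matrix.mulVec_smul, dotProduct_add, dotProduct_smul, smul_eq_mul,
    Matrix.mulVec_zero, dotProduct_zero, bil_map hM] at h3
  refine hi ⟨j, ?_⟩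
  rw [← hq, ← hj]
  simp only [qf, Matrix.mulVec_sub, sub_dotProduct, dotProduct_sub, bil_map hM] at h3 ⊢
  rw [bil_comm h (M *ᵥ y) y] at h3 ⊢
  linear_combination h3

/-- `M² + t M + 1` of rank one: the norm of a primitive vector spanning its image. -/
theorem line_bound (hM : Iso C K M) (t ε : ℤ) (hε : ε * ε = 1) {v : Fin l → ℤ}
    (hv : M *ᵥ v = ε • v) (hprim : ∀ p : ℕ, p.Prime → ¬ ∀ j, (p : ℤ) ∣ v j)
    (hline : ∀ w, M *ᵥ w = ε • w → qf K v • w = (w ⬝ᵥ K *ᵥ v) • v)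
    (hann : ∀ y, M *ᵥ (M *ᵥ (M *ᵥ y) + t • (M *ᵥ y) + y) = ε • (M *ᵥ (M *ᵥ y) + t • (M *ᵥ y) + y)) :
    0 < qf K v ∧ 2 * qf K v ∣ (2 * ε + t) * δ ∧ ∀ y, ∃ j, 2 * δ * qf K v * j =
      (2 + t) * qf K v * qf K y - (2 * ε + t) * (y ⬝ᵥ K *ᵥ v) ^ 2 := by
  set Q := qf K v with hQdef
  have hvv : v ⬝ᵥ K *ᵥ v = Q := rfl
  have hMv : ∀ y, (M *ᵥ y) ⬝ᵥ K *ᵥ v = ε * (y ⬝ᵥ K *ᵥ v) := fun y => by
    have h1 := bil_map hM y v
    rw [hv, Matrix.mulVec_smul, dotProduct_smul, smul_eq_mul] at h1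
    rw [← h1, ← mul_assoc, hε, one_mul]
  have hQ0 : Q ≠ 0 := by
    intro h0
    have hv0 : v = 0 := by
      refine eq_zero_of_pair h fun y => ?_
      by_contra hy
      -- a null vector pairs trivially: use positivity along `y + s v`
      have h2 := qf_nonneg h (y + (-(qf K y + 1) * (y ⬝ᵥ K *ᵥ v)) • v)
      simp only [qf, Matrix.mulVec_add, Matrix.mulVec_smul, dotProduct_add, add_dotProduct,
        smul_dotProduct, dotProduct_smul, smul_eq_mul, bil_comm h v y, hvv, h0] at h2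
      have h3 : 1 ≤ (y ⬝ᵥ K *ᵥ v) ^ 2 := by
        have : 0 < (y ⬝ᵥ K *ᵥ v) ^ 2 := by positivity
        omega
      have h4 := qf_nonneg h y
      simp only [qf] at h4
      nlinarith [mul_le_mul_of_nonneg_left h3 (by linarith : (0:ℤ) ≤ y ⬝ᵥ K *ᵥ y + 1)]
    exact hprim 2 Nat.prime_two fun j => by simp [hv0]
  have hkey : ∀ y, ∃ j, 2 * δ * Q * j =
      (2 + t) * Q * qf K y - (2 * ε + t) * (y ⬝ᵥ K *ᵥ v) ^ 2 := by
    intro y
    obtain ⟨j, hj⟩ := qf_diff h hM y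
    refine ⟨j, ?_⟩
    set w := M *ᵥ (M *ᵥ y) + t • (M *ᵥ y) + y with hw
    have hwv : w ⬝ᵥ K *ᵥ v = (2 + t * ε) * (y ⬝ᵥ K *ᵥ v) := by
      simp only [hw, add_dotProduct, smul_dotProduct, smul_eq_mul, hMv]
      linear_combination (y ⬝ᵥ K *ᵥ v) * hε
    have h3 := congrArg (fun w' => (M *ᵥ y) ⬝ᵥ K *ᵥ w') (hline w (hann y))
    simp only [Matrix.mulVec_smul, dotProduct_smul, smul_eq_mul, hwv, hMv] at h3
    rw [hw] at h3
    simp only [Matrix.mulVec_add, Matrix.mulVec_smul, dotProduct_add, dotProduct_smul, smul_eq_mul,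
      bil_map hM] at h3
    rw [show 2 * δ * Q * j = Q * (2 * δ * j) by ring, ← hj]
    simp only [qf, Matrix.mulVec_sub, sub_dotProduct, dotProduct_sub, bil_map hM]
    rw [bil_comm h (M *ᵥ y) y] at h3 ⊢
    linear_combination (-1 : ℤ) * h3 - t * (y ⬝ᵥ K *ᵥ v) ^ 2 * hε
  refine ⟨lt_of_le_of_ne (qf_nonneg h v) (Ne.symm hQ0), ?_, hkey⟩
  have hroot : ∀ j : Fin l, 2 * Q ∣ (2 * ε + t) * δ * v j ^ 2 := fun j => by
    obtain ⟨a, ha⟩ := hkey (C *ᵥ Pi.single j 1)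
    obtain ⟨b, hb⟩ := qf_image h (Pi.single j 1)
    have hT : (C *ᵥ Pi.single j 1) ⬝ᵥ K *ᵥ v = δ * v j := by
      rw [bil_comm h, Matrix.mulVec_mulVec, h.inv, Matrix.smul_mulVec, Matrix.one_mulVec,
        dotProduct_smul, smul_eq_mul]
      simp
    rw [hb, hT] at ha
    refine ⟨(2 + t) * b - a, mul_left_cancel₀ h.δpos.ne' ?_⟩
    linear_combination ha
  have hg : Finset.univ.gcd (fun j => v j ^ 2) = (1 : ℤ) := by
    set g := Finset.univ.gcd (fun j => v j ^ 2) with hg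
    have hgn : normalize g = g := Finset.normalize_gcd
    rw [← hgn, normalize_eq_one, Int.isUnit_iff_natAbs_eq]
    by_contra hne
    obtain ⟨p, hp, hpg⟩ := Nat.exists_prime_and_dvd hne
    refine hprim p hp fun j => Prime.dvd_of_dvd_pow (Nat.prime_iff_prime_int.1 hp) (n := 2) ?_
    exact (Int.ofNat_dvd_left.2 hpg).trans (Finset.gcd_dvd (Finset.mem_univ j))
  have h5 : 2 * Q ∣ Finset.univ.gcd fun j => (2 * ε + t) * δ * v j ^ 2 :=
    Finset.dvd_gcd fun j _ => hroot j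
  rw [Finset.gcd_mul_left, hg, mul_one] at h5
  exact h5.trans (dvd_of_eq (normalize_apply _)|>.trans (by exact Units.mul_right_dvd.2 dvd_rfl))

end CfsgLib.Chev.SylowTorus
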