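import Cfsg.Agent.Lib.Chev.SylowTorus.Fusion
import Cfsg.Agent.Lib.Chev.SylowTorus.Abelian
import Cfsg.Agent.Lib.Chev.SylowTorus.Charpoly
import Cfsg.Agent.Lib.Classical.SylowLargePrime
import Cfsg.Agent.Lib.Transfer.Sylow

/-!
Sylow subgroups of a Chevalley group for a prime not dividing the degrees.
-/

set_option autoImplicit false
set_option maxHeartbeats 1000000

namespace CfsgLib.Chev.SylowTorus

open Cfsg.Lie Matrix Polynomial CfsgLib.Chev.Cert CfsgLib.Chev.GTorus
open CfsgLib.Classical.SylowLargePrime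

/-- The valuation of the order formula. -/
theorem factorization_prod {r q : ℕ} [Fact r.Prime] (hq : 2 ≤ q) (ds : List ℕ)
    (hds : ∀ i ∈ ds, 0 < i ∧ ¬ r ∣ i) :
    (ds.map fun i => q ^ i - 1).prod ≠ 0 ∧ (ds.map fun i => q ^ i - 1).prod.factorization r =
      (ds.filter fun i => orderOf (q : ZMod r) ∣ i).length *
        (q ^ orderOf (q : ZMod r) - 1).factorization r := by
  induction ds with
  | nil => simp
  | cons i ds ih =>
    obtain ⟨h1, h2⟩ := ih fun j hj => hds j (List.mem_cons_of_mem _ hj)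
    obtain ⟨hi, hri⟩ := hds i List.mem_cons_self
    have hne : q ^ i - 1 ≠ 0 := Nat.sub_ne_zero_of_lt (Nat.one_lt_pow hi.ne' (by omega))
    refine ⟨by simp only [List.map_cons, List.prod_cons]; exact mul_ne_zero hne h1, ?_⟩
    rw [List.map_cons, List.prod_cons, Nat.factorization_mul hne h1, Finsupp.add_apply, h2,
      factorization_q_pow_sub_one (by omega) hi fun m e hd => hri (e ▸ dvd_mul_of_dvd_right hd _)]
    by_cases hdi : orderOf (q : ZMod r) ∣ i
    · rw [if_pos hdi, List.filter_cons_of_pos (by simpa using hdi), List.length_cons]; ring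
    · rw [if_neg hdi, List.filter_cons_of_neg (by simpa using hdi), zero_add]

variable {D : ChevalleyDatum} {T : Tab} {C : Tab.Cover} (h : Cert D T C)
  {Mi : Matrix (Fin T.l) (Fin T.l) ℤ}
include h

theorem sylow_homocyclic {δ : ℕ} (hMi : Mi * cartanT T = (δ : ℤ) • 1)
    {F : Type*} [Field F] [Fintype F] {r : ℕ} [Fact r.Prime]
    (hrq : ¬ r ∣ Fintype.card F) (hrδ : ¬ r ∣ δ)
    (ds : List ℕ) (e : ℕ) (hl : ds.length = T.l) (hds : ∀ i ∈ ds, 0 < i ∧ ¬ r ∣ i)
    (hG : ∀ (L : Type) [Field L] [Fintype L], ∃ g g' : ℕ, ¬ r ∣ g ∧ ¬ r ∣ g' ∧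
      g * Nat.card ↥(D.group L) = Fintype.card L ^ e * (ds.map fun i => Fintype.card L ^ i - 1).prod ∧
      g' * Nat.card ↥(D.diagonalSubgroup L) = (Fintype.card L - 1) ^ T.l)
    (hGF : ∃ g : ℕ, ¬ r ∣ g ∧ g * Nat.card ↥(D.group F) =
      Fintype.card F ^ e * (ds.map fun i => Fintype.card F ^ i - 1).prod)
    (hbound : ∀ w : List ℕ, WordOK T w → (∃ n, 0 < n ∧ (w.map (reflMat T)).prod ^ n = 1) →
      ((w.map (reflMat T)).prod.charpoly.map (Int.castRingHom (ZMod r))).rootMultiplicity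
          (Fintype.card F : ZMod r) ≤
        (ds.filter fun i => orderOf (Fintype.card F : ZMod r) ∣ i).length)
    (P : Sylow r ↥(D.group F)) :
    Nonempty (↥(P : Subgroup ↥(D.group F)) ≃*
      (Fin (ds.filter fun i => orderOf (Fintype.card F : ZMod r) ∣ i).length →
        Multiplicative (ZMod (r ^ padicValNat r
          ((Polynomial.cyclotomic (orderOf (Fintype.card F : ZMod r)) ℤ).eval
            (Fintype.card F : ℤ)).natAbs)))) := by
  classical
  set q := Fintype.card F with hq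
  have hq2 : 2 ≤ q := Fintype.one_lt_card
  set d := orderOf (q : ZMod r) with hd
  set N := (ds.filter fun i => d ∣ i).length with hN
  have hr : r.Prime := Fact.out
  have hd0 : 0 < d := order_pos hrq
  rw [padicValNat_cyclotomic hq2 hrq, ← hd]
  set a := (q ^ d - 1).factorization r with ha
  have hqd : q ^ d - 1 ≠ 0 := Nat.sub_ne_zero_of_lt (Nat.one_lt_pow hd0.ne' (by omega))
  have ha0 : 0 < a := hr.factorization_pos_of_dvd hqd ((dvd_pow_sub_one_iff (by omega) d).2 dvd_rfl)
  have hPcard : Nat.card ↥(P : Subgroup ↥(D.group F)) = r ^ (a * N) := by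
    obtain ⟨g, hg, e1⟩ := hGF
    obtain ⟨h1, h2⟩ := factorization_prod (r := r) hq2 ds hds
    have h3 := congrArg (fun x : ℕ => x.factorization r) e1
    simp only [Nat.factorization_mul (fun h0 : g = 0 => hg (by rw [h0]; exact dvd_zero r)) Nat.card_pos.ne',
      Nat.factorization_mul (pow_ne_zero e (by omega : q ≠ 0)) h1, Finsupp.add_apply,
      Nat.factorization_eq_zero_of_not_dvd hg, Nat.factorization_pow, Finsupp.smul_apply,
      Nat.factorization_eq_zero_of_not_dvd hrq, h2, zero_add, smul_zero, ← hd, ← hN, ← ha] at h3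
    rw [P.card_eq_multiplicity, h3, mul_comm]
  -- the extension of degree `d`
  obtain ⟨p, hp⟩ := CharP.exists F
  obtain ⟨e', hpp, -⟩ := FiniteField.card F p
  have := Fact.mk hpp
  have : NeZero d := ⟨hd0.ne'⟩
  let L := FiniteField.Extension F p d
  let : Fintype L := Fintype.ofFinite L
  set Q := Fintype.card L with hQ
  have hQq : Q = q ^ d := by
    rw [hQ, ← Nat.card_eq_fintype_card, FiniteField.natCard_extension, Nat.card_eq_fintype_card]
  set f : F →+* L := algebraMap F L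
  set σ : L →+* L := (FiniteField.frobeniusAlgHom F L).toRingHom
  have hσ : ∀ x, σ x = x ^ q := fun x => rfl
  have hσf : ∀ g : GL D.Idx F, mapGL D σ (mapGL D f g) = mapGL D f g := fun g =>
    (mapGL_eq_self_iff D σ _).2 fun i j => (show σ _ = _ from (mem_range_iff_pow f _).2 ⟨_, rfl⟩)
  -- a Sylow subgroup in the diagonal
  obtain ⟨g₁, g₂, hg₁, hg₂, eG, eD⟩ := hG L
  obtain ⟨S⟩ := (inferInstance : Nonempty (Sylow r ↥(D.diagonalSubgroup L)))
  set X := (S : Subgroup ↥(D.diagonalSubgroup L)).map (D.diagonalSubgroup L).subtype with hX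
  have hXd : X ≤ D.diagonalSubgroup L := Subgroup.map_subtype_le _
  have hXG : X ≤ D.group L := hXd.trans h.diagonal_le_group
  have hidx : ¬ r ∣ X.relIndex (D.group L) := by
    obtain ⟨h1, h2⟩ := factorization_prod (r := r) (q := Q) (Fintype.one_lt_card) ds hds
    have hQ1 : (Q : ZMod r) = 1 := by rw [hQq, Nat.cast_pow, hd, pow_orderOf_eq_one]
    rw [hQ1, orderOf_one, List.filter_eq_self.2 (by simp), hl, pow_one] at h2
    have hcX : Nat.card ↥X = r ^ (T.l * (Q - 1).factorization r) := by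
      rw [hX, Subgroup.card_subtype, S.card_eq_multiplicity]
      have h3 := congrArg (fun x : ℕ => x.factorization r) eD
      simp only [Nat.factorization_mul (fun h0 : g₂ = 0 => hg₂ (by rw [h0]; exact dvd_zero r)) Nat.card_pos.ne',
        Finsupp.add_apply, Nat.factorization_eq_zero_of_not_dvd hg₂, Nat.factorization_pow,
        Finsupp.smul_apply, smul_eq_mul, zero_add, ← hQ] at h3
      rw [h3]
    have hcG : (Nat.card ↥(D.group L)).factorization r = T.l * (Q - 1).factorization r := by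
      have h3 := congrArg (fun x : ℕ => x.factorization r) eG
      have hrQ : ¬ r ∣ Q := fun hh => by
        rw [hQq] at hh; exact hrq (hr.dvd_of_dvd_pow hh)
      simp only [Nat.factorization_mul (fun h0 : g₁ = 0 => hg₁ (by rw [h0]; exact dvd_zero r)) Nat.card_pos.ne',
        Finsupp.add_apply, Nat.factorization_eq_zero_of_not_dvd hg₁, zero_add, ← hQ] at h3
      rw [h3, Nat.factorization_mul (pow_ne_zero e (by rw [hQ]; exact Fintype.card_ne_zero)) h1,
        Finsupp.add_apply, Nat.factorization_pow, Finsupp.smul_apply,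
        Nat.factorization_eq_zero_of_not_dvd hrQ, h2, smul_zero, zero_add]
    intro hdv
    have h4 : X.relIndex (D.group L) * Nat.card ↥X = Nat.card ↥(D.group L) := by
      rw [← Nat.card_congr (Subgroup.subgroupOfEquivOfLe hXG).toEquiv, mul_comm]
      exact Subgroup.card_mul_index _
    have h5 : r ^ (T.l * (Q - 1).factorization r + 1) ∣ Nat.card ↥(D.group L) := by
      rw [← h4, hcX, pow_succ, mul_comm _ r]
      exact Nat.mul_dvd_mul_right hdv _
    have h6 := (hr.pow_dvd_iff_le_factorization Nat.card_pos.ne').1 h5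
    omega
  let ψ : ↥(P : Subgroup ↥(D.group F)) →* GL D.Idx L :=
    (mapGL D f).comp ((D.group F).subtype.comp (P : Subgroup ↥(D.group F)).subtype)
  have hψinj : Function.Injective ψ :=
    (mapGL_injective D f).comp (Subtype.val_injective.comp Subtype.val_injective)
  obtain ⟨gg, hgg, hle⟩ := CfsgLib.Transfer.exists_conj_le_of_not_dvd_relIndex hXG
    (S.isPGroup'.map _) hidx
    (Y := ψ.range) (by rintro _ ⟨z, rfl⟩; exact h.map_mem_group f z.1.2)
    (P.isPGroup'.of_equiv (MonoidHom.ofInjective hψinj))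
  let φ : ↥(P : Subgroup ↥(D.group F)) →* GL D.Idx L := (MulAut.conj gg).toMonoidHom.comp ψ
  have hφ : ∀ z, φ z = gg * ψ z * gg⁻¹ := fun z => rfl
  have hφinj : Function.Injective φ := (MulAut.conj gg).injective.comp hψinj
  have hφd : ∀ z, φ z ∈ D.diagonalSubgroup L := fun z =>
    hXd (hle (Subgroup.mem_map_of_mem _ ⟨z, rfl⟩))
  let : CommGroup ↥(P : Subgroup ↥(D.group F)) :=
    { (inferInstance : Group ↥(P : Subgroup ↥(D.group F))) with
      mul_comm := fun z z' => hφinj (by rw [map_mul, map_mul, h.diagonal_comm (hφd z) (hφd z')]) }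
  -- the Weyl element
  set y := mapGL D σ gg * gg⁻¹ with hy
  have hyg : y ∈ D.group L := mul_mem (h.map_mem_group σ hgg) (inv_mem hgg)
  have hσφ : ∀ z, mapGL D σ (φ z) = y * φ z * y⁻¹ := fun z => by
    rw [hy, hφ, map_mul, map_mul, map_inv, show mapGL D σ (ψ z) = ψ z from hσf _]; group
  obtain ⟨n, hn, hnc⟩ := diag_fusion h (inv_mem hyg)
  have hnφ : ∀ z, n * mapGL D σ (φ z) * n⁻¹ = φ z := fun z =>
    hnc _ (h.map_mem_diagonal σ (hφd z)) _ (hφd z) (by rw [hσφ]; group)
  obtain ⟨w, hw, hM⟩ := exists_acts_word h hn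
  have hδ0 : δ ≠ 0 := fun h0 => hrδ (h0 ▸ dvd_zero r)
  have hfin := acts_finite_order' h (by exact_mod_cast hδ0 : (δ : ℤ) ≠ 0) hMi hM
  set M := (w.map (reflMat T)).prod with hMdef
  let τ : (Fin T.l → Lˣ) →* GL D.Idx L := Cert.torusHom (D := D) (T := T)
  have hLcard : Nat.card Lˣ = q ^ d - 1 := by
    rw [Nat.card_units, Nat.card_eq_fintype_card, ← hQ, hQq]
  -- torsion lifts
  set m := (q ^ d - 1) / r ^ a with hm
  have hma : r ^ a * m = q ^ d - 1 := Nat.ordProj_mul_ordCompl_eq_self _ r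
  have hcop : (r ^ a).Coprime m := (Nat.coprime_ordCompl hr hqd).pow_left a
  obtain ⟨t, ht⟩ : ∃ t : ℕ, m * t ≡ 1 [MOD r ^ a] := by
    obtain ⟨t, -, ht⟩ := Nat.exists_mul_mod_eq_one_of_coprime hcop.symm
      (Nat.one_lt_pow ha0.ne' hr.one_lt)
    exact ⟨t, by rw [Nat.ModEq, ht, Nat.one_mod_eq_one.2 (Nat.one_lt_pow ha0.ne' hr.one_lt).ne']⟩
  have hlift : ∀ z, ∃ c : Fin T.l → Lˣ, τ c = φ z ∧ c ^ r ^ a = 1 ∧ z ^ r ^ a = 1 := by
    intro z
    obtain ⟨c, hc⟩ := h.range_torusHom.ge (hφd z)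
    have hcL : c ^ (r ^ a * m) = 1 := funext fun i => by
      rw [hma, ← hLcard]; exact pow_card_eq_one'
    obtain ⟨j, hj⟩ := P.isPGroup' z
    have hoz : orderOf z ∣ r ^ a := by
      obtain ⟨i, -, hi⟩ := (Nat.dvd_prime_pow hr).1 (orderOf_dvd_of_pow_eq_one hj)
      have h1 : orderOf z ∣ r ^ a * m := by
        refine orderOf_dvd_of_pow_eq_one (hφinj ?_)
        rw [map_pow, map_one, ← hc, ← map_pow, hcL, map_one]
      refine Nat.Coprime.dvd_of_dvd_mul_right ?_ h1
      rw [hi]
      exact (Nat.coprime_ordCompl hr hqd).pow_left i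
    have hz : z ^ r ^ a = 1 := orderOf_dvd_iff_pow_eq_one.1 hoz
    refine ⟨c ^ (m * t), ?_, ?_, hz⟩
    · show τ (c ^ (m * t)) = φ z
      rw [map_pow, show τ c = φ z from hc, ← map_pow]
      congr 1
      calc z ^ (m * t) = z ^ 1 := pow_eq_pow_iff_modEq.2 (ht.of_dvd hoz)
        _ = z := pow_one z
    · rw [← pow_mul, show m * t * r ^ a = r ^ a * m * t by ring, pow_mul, hcL, one_pow]
  have huniq : ∀ c c' : Fin T.l → Lˣ, c ^ r ^ a = 1 → c' ^ r ^ a = 1 → τ c = τ c' → c = c' := by
    intro c c' h1 h2 h3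
    have h4 : c * c'⁻¹ ∈ (matHom (G := Lˣ) (cartanT T)).ker := by
      rw [← h.ker_torusHom, MonoidHom.mem_ker, map_mul, map_inv]
      exact mul_inv_eq_one.2 h3
    have h5 : (c * c'⁻¹) ^ δ = 1 := by
      have h6 := congrArg (matHom (G := Lˣ) Mi) (MonoidHom.mem_ker.1 h4)
      rw [map_one, ← matHom_mul, hMi] at h6
      rw [← h6]
      funext i
      rw [matHom_apply, Finset.prod_eq_single i]
      · simp [zpow_natCast]
      · intro k _ hk; simp [Matrix.one_apply_ne (Ne.symm hk)]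
      · simp
    have h7 : (c * c'⁻¹) ^ r ^ a = 1 := by rw [mul_pow, inv_pow, h1, h2, inv_one, mul_one]
    have h8 : orderOf (c * c'⁻¹) ∣ 1 :=
      (((hr.coprime_iff_not_dvd.2 hrδ).pow_left a).gcd_eq_one ▸
        Nat.dvd_gcd (orderOf_dvd_of_pow_eq_one h7) (orderOf_dvd_of_pow_eq_one h5))
    exact mul_inv_eq_one.1 (orderOf_eq_one_iff.1 (Nat.dvd_one.1 h8))
  have hrel : ∀ z c, τ c = φ z → c ^ r ^ a = 1 → c ^ q = matHom Mᵀ c := by
    intro z c hc h1
    refine huniq _ _ (by rw [← pow_mul, mul_comm, pow_mul, h1, one_pow])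
      (by rw [← map_pow, h1, map_one]) ?_
    have h2 : n * mapGL D σ (τ c) * n⁻¹ = n * τ (matHom Mᵀ c) * n⁻¹ := by
      rw [conj_torusHom h hn hM c]
      show n * mapGL D σ (τ c) * n⁻¹ = τ c
      rw [hc, hnφ]
    rw [← mul_left_cancel (mul_right_cancel h2), mapGL_torusHom]
    exact congrArg τ (funext fun i => Units.ext (by simp [hσ, Units.val_pow_eq_pow_val]))
  -- torsion
  have htor : Nat.card {z : ↥(P : Subgroup ↥(D.group F)) // z ^ r = 1} ≤ r ^ N := by
    obtain ⟨ω, hω⟩ := exists_prime_orderOf_dvd_card' (G := Lˣ) r (by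
      rw [hLcard]; exact (dvd_pow_sub_one_iff (by omega) d).2 dvd_rfl)
    have hω' : IsPrimitiveRoot (ω : L) r := by
      rw [IsPrimitiveRoot.iff_orderOf, orderOf_units, hω]
    refine le_trans ?_ ((card_eigen_le (M := M) (q : ZMod r)).trans
      (Nat.pow_le_pow_right hr.pos (hbound w hw hfin)))
    have key : ∀ z : {z : ↥(P : Subgroup ↥(D.group F)) // z ^ r = 1},
        ∃ x : {x : Fin T.l → ZMod r // x ᵥ* M.map (Int.castRingHom (ZMod r)) = (q : ZMod r) • x},
          φ z.1 = τ fun i => ω ^ ((x.1 i).val : ℤ) := by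
      intro z
      obtain ⟨c, hc, hca, -⟩ := hlift z.1
      have hcr : c ^ r = 1 := huniq _ _ (by rw [← pow_mul, mul_comm, pow_mul, hca, one_pow])
        (one_pow _) (by rw [map_pow, map_one, hc, ← map_pow, z.2, map_one])
      have hX : ∀ i, ∃ X : ℤ, ω ^ X = c i := fun i => by
        obtain ⟨j, -, hj⟩ := hω'.eq_pow_of_pow_eq_one (ξ := (c i : L))
          (by rw [← Units.val_pow_eq_pow_val, show c i ^ r = 1 from congrFun hcr i, Units.val_one])
        exact ⟨j, Units.ext (by rw [zpow_natCast, Units.val_pow_eq_pow_val, hj])⟩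
      choose X hX using hX
      have hcX : c = fun i => ω ^ X i := funext fun i => (hX i).symm
      refine ⟨⟨fun i => (X i : ZMod r), ?_⟩, ?_⟩
      · have h1 := hrel _ c hc hca
        rw [hcX, matHom_pow] at h1
        funext i
        have h2 : (r : ℤ) ∣ X i * q - (Mᵀ *ᵥ X) i := by
          rw [← hω, orderOf_dvd_iff_zpow_eq_one, _root_.zpow_sub, _root_.zpow_mul, zpow_natCast,
            show (ω ^ X i) ^ q = ω ^ (Mᵀ *ᵥ X) i from congrFun h1 i, mul_inv_cancel]
        rw [← ZMod.intCast_zmod_eq_zero_iff_dvd, Int.cast_sub, sub_eq_zero,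
          Matrix.mulVec_transpose] at h2
        rw [Pi.smul_apply, smul_eq_mul, mul_comm]
        simpa [Matrix.vecMul, dotProduct] using h2.symm
      · refine hc.symm.trans (congrArg τ (funext fun i => (hX i).symm.trans ?_))
        have h5 : (r : ℤ) ∣ X i - ((X i : ZMod r).val : ℤ) := by
          rw [← ZMod.intCast_zmod_eq_zero_iff_dvd]; simp
        exact orderOf_dvd_sub_iff_zpow_eq_zpow.1 ((congrArg (fun u : ℕ => (u : ℤ) ∣ _) hω).mpr h5)
    choose x hx using key
    exact Nat.card_le_card_of_injective x fun z z' e1 =>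
      Subtype.ext (hφinj (by rw [hx, hx, e1]))
  exact homocyclic ha0 (fun z => (hlift z).choose_spec.2.2) hPcard htor

end CfsgLib.Chev.SylowTorus
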