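import Cfsg.Agent.Lib.Chev.SylowTorus.Lattice

/-!
A finite order matrix all of whose eigenvalues but at most one are primitive of a given small order.
-/

set_option autoImplicit false

namespace CfsgLib.Chev.SylowTorus

open Matrix Polynomial

variable {l : ℕ} {M : Matrix (Fin l) (Fin l) ℤ}

/-- The matrix over `ℚ`. -/
abbrev ratM (M : Matrix (Fin l) (Fin l) ℤ) : Matrix (Fin l) (Fin l) ℚ := M.map (Int.castRingHom ℚ)

theorem ratM_injective : Function.Injective (ratM (l := l)) :=
  Matrix.map_injective Int.cast_injective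

theorem ratM_aeval (f : ℤ[X]) : ratM (aeval M f) = aeval (ratM M) (f.map (Int.castRingHom ℚ)) := by
  show (Int.castRingHom ℚ).mapMatrix (aeval M f) = _
  rw [Polynomial.aeval_def, Polynomial.aeval_def, Polynomial.hom_eval₂, Polynomial.eval₂_map]
  congr 1
  exact RingHom.ext_int _ _

/-- The squarefree kernel of the characteristic polynomial annihilates the matrix. -/
theorem aeval_radical {n d k : ℕ} (hn : 0 < n) (hM : M ^ n = 1) (hk : 0 < k) {R : ℤ[X]}
    (hc : M.charpoly = cyclotomic d ℤ ^ k * R) : aeval M (cyclotomic d ℤ * R) = 0 := by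
  refine ratM_injective ?_
  rw [ratM_aeval, show ratM (0 : Matrix (Fin l) (Fin l) ℤ) = 0 by simp [ratM]]
  have h0 : aeval (ratM M) ((X : ℚ[X]) ^ n - 1) = 0 := by
    rw [map_sub, map_pow, aeval_X, map_one, ratM, ← Matrix.map_pow, hM,
      Matrix.map_one _ (map_zero _) (map_one _), sub_self]
  have hsq : Squarefree (minpoly ℚ (ratM M)) :=
    Squarefree.squarefree_of_dvd (minpoly.dvd ℚ _ h0)
      (Polynomial.separable_X_pow_sub_C (1 : ℚ) (by exact_mod_cast hn.ne') one_ne_zero).squarefree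
  have hd : minpoly ℚ (ratM M) ∣ ((cyclotomic d ℤ * R).map (Int.castRingHom ℚ)) ^ k := by
    refine (Matrix.minpoly_dvd_charpoly _).trans ?_
    rw [Matrix.charpoly_map, hc, ← Polynomial.map_pow]
    exact Polynomial.map_dvd _ (by rw [mul_pow]; exact mul_dvd_mul_left _ (dvd_pow_self _ hk.ne'))
  rw [hsq.dvd_pow_iff_dvd hk.ne'] at hd
  obtain ⟨f, hf⟩ := hd
  rw [hf, map_mul, minpoly.aeval, zero_mul]

variable {K : Matrix (Fin l) (Fin l) ℤ}

/-- The vector of the exceptional eigenvalue. -/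
theorem exists_line {d k : ℕ} {ε : ℤ}
    (hc : M.charpoly = cyclotomic d ℤ ^ k * (X - Polynomial.C ε))
    (hε : (cyclotomic d ℤ).eval ε ≠ 0) :
    ∃ v : Fin l → ℤ, M *ᵥ v = ε • v ∧ (∀ p : ℕ, p.Prime → ¬ ∀ j, (p : ℤ) ∣ v j) ∧
      ∀ w, M *ᵥ w = ε • w → qf K v • w = (w ⬝ᵥ K *ᵥ v) • v := by
  classical
  have hz : (Matrix.scalar (Fin l) ε - M).det = 0 := by rw [← Matrix.eval_charpoly, hc]; simp
  obtain ⟨v₀, hv₀, hMv₀⟩ := Matrix.exists_mulVec_eq_zero_iff.2 hz
  have hMv₀ : M *ᵥ v₀ = ε • v₀ := by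
    rw [Matrix.sub_mulVec, sub_eq_zero, Matrix.scalar_apply] at hMv₀
    rw [← hMv₀]
    funext i
    simp [Matrix.mulVec_diagonal]
  have hne : ∃ j, v₀ j ≠ 0 := Function.ne_iff.1 hv₀
  obtain ⟨j₀, hj₀⟩ := hne
  obtain ⟨v, hv, hvg⟩ := Finset.extract_gcd v₀ (s := Finset.univ) ⟨j₀, Finset.mem_univ _⟩
  set g := Finset.univ.gcd v₀
  have hg : g ≠ 0 := fun e => hj₀ (by rw [hv j₀ (Finset.mem_univ _), e, zero_mul])
  have hv0 : v₀ = g • v := funext fun j => hv j (Finset.mem_univ _)
  have hMv : M *ᵥ v = ε • v := by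
    refine smul_right_injective _ hg ?_
    show g • (M *ᵥ v) = g • ε • v
    rw [← Matrix.mulVec_smul, ← hv0, hMv₀, hv0, smul_comm]
  refine ⟨v, hMv, fun p hp hall => hp.ne_one ?_, fun w hw => ?_⟩
  · have : (p : ℤ) ∣ Finset.univ.gcd v := Finset.dvd_gcd fun j _ => hall j
    rw [hvg] at this
    exact Nat.dvd_one.1 (by exact_mod_cast this)
  · let vq : Fin l → ℚ := fun j => (v j : ℚ)
    let wq : Fin l → ℚ := fun j => (w j : ℚ)
    set S := Module.End.eigenspace (Matrix.toLin' (ratM M)) (ε : ℚ)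
    have hmem : ∀ x : Fin l → ℤ, M *ᵥ x = ε • x → (fun j => (x j : ℚ)) ∈ S := by
      intro x hx
      rw [Module.End.mem_eigenspace_iff, Matrix.toLin'_apply]
      funext i
      have h1 := congrArg (fun z : ℤ => (z : ℚ)) (congrFun hx i)
      simp only [Matrix.mulVec, dotProduct, Pi.smul_apply, smul_eq_mul, Int.cast_sum, Int.cast_mul] at h1
      simpa [Matrix.mulVec, dotProduct] using h1
    have hS : Module.finrank ℚ S ≤ 1 := by
      refine (LinearMap.finrank_eigenspace_le _ _).trans ?_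
      rw [Matrix.charpoly_toLin', Matrix.charpoly_map, hc, Polynomial.map_mul, Polynomial.map_pow,
        Polynomial.map_sub, map_X, map_C, map_cyclotomic,
        Polynomial.rootMultiplicity_mul (mul_ne_zero (pow_ne_zero _ (cyclotomic_ne_zero d ℚ))
          (X_sub_C_ne_zero _))]
      rw [rootMultiplicity_eq_zero, zero_add]
      · exact (rootMultiplicity_X_sub_C_self).le
      · rw [IsRoot, eval_pow, ← map_cyclotomic d (Int.castRingHom ℚ),
          ← eq_intCast (Int.castRingHom ℚ) ε, eval_map_apply, eq_intCast]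
        exact pow_ne_zero _ (by exact_mod_cast hε)
    obtain ⟨b, hb⟩ := finrank_le_one_iff.1 hS
    obtain ⟨a, ha⟩ := hb ⟨vq, hmem v hMv⟩
    obtain ⟨e, he⟩ := hb ⟨wq, hmem w hw⟩
    have ha0 : a ≠ 0 := by
      intro h0
      rw [h0, zero_smul] at ha
      have h1 : vq = 0 := (congrArg Subtype.val ha).symm
      refine hv₀ (funext fun j => ?_)
      have h2 : (v j : ℚ) = 0 := congrFun h1 j
      rw [hv0, Pi.smul_apply, show v j = 0 by exact_mod_cast h2, smul_zero]; rfl
    have hr : ∀ j, (w j : ℚ) = e / a * v j := fun j => by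
      have h1 : (v j : ℚ) = a * (b : Fin l → ℚ) j := (congrFun (congrArg Subtype.val ha) j).symm
      have h2 : (w j : ℚ) = e * (b : Fin l → ℚ) j := (congrFun (congrArg Subtype.val he) j).symm
      rw [h1, h2]; field_simp
    funext j
    apply Int.cast_injective (α := ℚ)
    simp only [qf, Pi.smul_apply, smul_eq_mul, Int.cast_mul, dotProduct, Int.cast_sum, hr,
      Finset.sum_mul]
    exact Finset.sum_congr rfl fun i _ => by ring

end CfsgLib.Chev.SylowTorus
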